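/-
Flat complete lifts of complete local algebras over the residue field.
-/
import Mathlib
import Groth.Agent.LocalCrit.Criterion
import Groth.Agent.Cohen.Structure
import Groth.Agent.EGA41Cohen.Basic
import Groth.Agent.AdicLim.Noetherian
import Groth.Agent.ArtKit.PSRing

set_option autoImplicit false
universe u

namespace Groth.Agent.EGA41FS

open IsLocalRing TensorProduct

/-- An ideal extended from a ring over which `S` is flat multiplies injectively into `S`. -/
theorem mulMap_injective_of_flat_below {R₀ R S : Type u} [CommRing R₀] [CommRing R] [CommRing S]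
    [Algebra R₀ R] [Algebra R S] [Algebra R₀ S] [IsScalarTower R₀ R S] [Module.Flat R₀ S] (I₀ : Ideal R₀)
    (I : Ideal R) (hI : I₀.map (algebraMap R₀ R) = I) : Function.Injective (LocalCrit.mulMap I S) := by
  let j : I₀ →ₗ[R₀] I :=
    ((Algebra.linearMap R₀ R).comp I₀.subtype).codRestrict (I.restrictScalars R₀) fun x =>
      hI ▸ Ideal.mem_map_of_mem (algebraMap R₀ R) x.2
  let c : I₀ ⊗[R₀] S →ₗ[R₀] I ⊗[R] S := TensorProduct.lift (LinearMap.mk₂ R₀ (fun x s => j x ⊗ₜ[R] s)
    (fun a b s => by rw [map_add, TensorProduct.add_tmul])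
    (fun r a s => by rw [map_smul, TensorProduct.smul_tmul'])
    (fun a s t => by rw [TensorProduct.tmul_add])
    (fun r a s => by
      rw [← algebraMap_smul R r s, TensorProduct.tmul_smul, algebraMap_smul]))
  have hcomp : ∀ z, LocalCrit.mulMap I S (c z) = LocalCrit.mulMap I₀ S z := fun z => by
    induction z with
    | zero => simp
    | add a b ha hb => rw [map_add, map_add, map_add, ha, hb]
    | tmul x s =>
      show LocalCrit.mulMap I S (j x ⊗ₜ[R] s) = _
      rw [LocalCrit.mulMap_tmul, LocalCrit.mulMap_tmul]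
      show (algebraMap R₀ R x : R) • s = (x : R₀) • s
      rw [algebraMap_smul]
  have hinj : Function.Injective (LocalCrit.mulMap I₀ S) :=
    (TensorProduct.lid R₀ S).injective.comp (Module.Flat.rTensor_preserves_injective_linearMap _ Subtype.val_injective)
  have hsurj : ∀ (y : R) (hy : y ∈ I) (s : S), (⟨y, hy⟩ : I) ⊗ₜ[R] s ∈ LinearMap.range c := by
    intro y hy
    have hy' : y ∈ Submodule.span R (algebraMap R₀ R '' I₀) := by
      rw [← hI] at hy; exact hy
    induction hy' using Submodule.span_induction with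
    | mem z hz =>
      obtain ⟨x, hx, rfl⟩ := hz
      exact fun s => ⟨(⟨x, hx⟩ : I₀) ⊗ₜ[R₀] s, rfl⟩
    | zero =>
      intro s
      refine ⟨0, ?_⟩
      rw [map_zero, show (⟨0, hy⟩ : I) = 0 from rfl, TensorProduct.zero_tmul]
    | add a b ha' hb' iha ihb =>
      intro s
      have ha : a ∈ I := hI ▸ ha'
      have hb : b ∈ I := hI ▸ hb'
      rw [show (⟨a + b, hy⟩ : I) = (⟨a, ha⟩ : I) + ⟨b, hb⟩ from rfl, TensorProduct.add_tmul]
      exact add_mem (iha ha s) (ihb hb s)
    | smul r a ha' iha =>
      intro s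
      have ha : a ∈ I := hI ▸ ha'
      rw [show (⟨r • a, hy⟩ : I) = r • (⟨a, ha⟩ : I) from rfl, TensorProduct.smul_tmul]
      exact iha ha (r • s)
  have hsurj' : Function.Surjective c := fun z => by
    induction z with
    | zero => exact ⟨0, map_zero c⟩
    | add a b ha hb => obtain ⟨a', rfl⟩ := ha; obtain ⟨b', rfl⟩ := hb; exact ⟨a' + b', map_add c a' b'⟩
    | tmul x s => exact hsurj x.1 x.2 s
  intro z w h
  obtain ⟨z, rfl⟩ := hsurj' z
  obtain ⟨w, rfl⟩ := hsurj' w
  rw [hcomp, hcomp] at h
  rw [hinj h]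

/-- Power series over a flat local extension form a flat algebra. -/
theorem flat_mvPowerSeries_map {W P : Type u} [CommRing W] [IsLocalRing W] [IsNoetherianRing W]
    [CommRing P] [IsLocalRing P] [IsNoetherianRing P] (θ : W →+* P) [IsLocalHom θ] (hθ : θ.Flat) (n : ℕ) :
    (MvPowerSeries.map (σ := Fin n) θ).Flat := by
  letI := θ.toAlgebra
  letI aR : Algebra (MvPowerSeries (Fin n) W) (MvPowerSeries (Fin n) P) := (MvPowerSeries.map θ).toAlgebra
  haveI : Module.Flat W P := hθ
  haveI : IsLocalHom (algebraMap (MvPowerSeries (Fin n) W) (MvPowerSeries (Fin n) P)) := ⟨fun f hf => by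
    rw [MvPowerSeries.isUnit_iff_constantCoeff] at hf ⊢
    refine isUnit_of_map_unit θ _ ?_
    rwa [RingHom.algebraMap_toAlgebra, MvPowerSeries.constantCoeff_map] at hf⟩
  letI : Algebra (MvPolynomial (Fin n) W) (MvPolynomial (Fin n) P) := MvPolynomial.algebraMvPolynomial
  haveI : IsScalarTower W (MvPolynomial (Fin n) W) (MvPolynomial (Fin n) P) :=
    IsScalarTower.of_algebraMap_eq' (by ext a; simp [MvPolynomial.algebraMvPolynomial, RingHom.algebraMap_toAlgebra])
  haveI : Module.Flat (MvPolynomial (Fin n) W) (MvPolynomial (Fin n) P) :=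
    Module.Flat.isBaseChange W (MvPolynomial (Fin n) W) P (MvPolynomial (Fin n) P)
      (Algebra.IsPushout.out (R := W) (S := MvPolynomial (Fin n) W) (R' := P) (S' := MvPolynomial (Fin n) P))
  haveI : Module.Flat (MvPolynomial (Fin n) P) (MvPowerSeries (Fin n) P) :=
    Module.Flat.of_linearEquiv (MvPowerSeries.toAdicCompletionAlgEquiv (Fin n) P).toLinearEquiv
  have h1 : (algebraMap (MvPolynomial (Fin n) W) (MvPowerSeries (Fin n) P)) =
      (algebraMap (MvPolynomial (Fin n) P) (MvPowerSeries (Fin n) P)).comp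
        (algebraMap (MvPolynomial (Fin n) W) (MvPolynomial (Fin n) P)) := by
    refine MvPolynomial.ringHom_ext (fun a => ?_) fun i => ?_ <;>
      simp [MvPowerSeries.algebraMap_apply', MvPowerSeries.algebraMap_apply, MvPolynomial.algebraMvPolynomial, RingHom.algebraMap_toAlgebra]
  haveI : Module.Flat (MvPolynomial (Fin n) W) (MvPowerSeries (Fin n) P) := by
    rw [← RingHom.flat_algebraMap_iff, h1]
    exact RingHom.Flat.comp (RingHom.flat_algebraMap_iff.mpr inferInstance) (RingHom.flat_algebraMap_iff.mpr inferInstance)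
  haveI : IsScalarTower (MvPolynomial (Fin n) W) (MvPowerSeries (Fin n) W) (MvPowerSeries (Fin n) P) :=
    IsScalarTower.of_algebraMap_eq' (by
      refine MvPolynomial.ringHom_ext (fun a => ?_) fun i => ?_ <;>
        simp [MvPowerSeries.algebraMap_apply', MvPowerSeries.algebraMap_apply, RingHom.algebraMap_toAlgebra])
  let I₀ : Ideal (MvPolynomial (Fin n) W) :=
    (maximalIdeal W).map MvPolynomial.C ⊔ Ideal.span (Set.range MvPolynomial.X)
  have hI : I₀.map (algebraMap (MvPolynomial (Fin n) W) (MvPowerSeries (Fin n) W)) =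
      maximalIdeal (MvPowerSeries (Fin n) W) := by
    rw [Ideal.map_sup, Ideal.map_map, Ideal.map_span]
    refine le_antisymm (sup_le (Ideal.map_le_iff_le_comap.mpr fun a ha => ?_) (Ideal.span_le.mpr ?_)) fun f hf => ?_
    · rw [Ideal.mem_comap, mem_maximalIdeal, mem_nonunits_iff, MvPowerSeries.isUnit_iff_constantCoeff]
      simpa [MvPowerSeries.algebraMap_apply'] using ha
    · rintro _ ⟨_, ⟨i, rfl⟩, rfl⟩
      rw [SetLike.mem_coe, mem_maximalIdeal, mem_nonunits_iff, MvPowerSeries.isUnit_iff_constantCoeff]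
      simp [MvPowerSeries.algebraMap_apply']
    · rw [mem_maximalIdeal, mem_nonunits_iff, MvPowerSeries.isUnit_iff_constantCoeff] at hf
      rw [← sub_add_cancel f (MvPowerSeries.C (MvPowerSeries.constantCoeff f))]
      refine add_mem (Submodule.mem_sup_right ?_) (Submodule.mem_sup_left ?_)
      · refine Ideal.span_mono ?_ (ArtPow.sub_C_constantCoeff_mem f)
        rintro _ ⟨i, rfl⟩
        exact ⟨_, ⟨i, rfl⟩, by simp [MvPowerSeries.algebraMap_apply']⟩
      · rw [show MvPowerSeries.C (MvPowerSeries.constantCoeff f) =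
          (algebraMap (MvPolynomial (Fin n) W) (MvPowerSeries (Fin n) W)).comp MvPolynomial.C (MvPowerSeries.constantCoeff f) by
            simp [MvPowerSeries.algebraMap_apply']]
        exact Ideal.mem_map_of_mem _ ((mem_maximalIdeal _).mpr hf)
  exact LocalCrit.flat_of_mulMap_injective (MvPowerSeries (Fin n) P) (mulMap_injective_of_flat_below I₀ _ hI)

/-- A flat complete lift, from a lift over a coefficient ring of the base. -/
theorem exists_flat_lift {A W P B₀ : Type u} [CommRing A] [IsLocalRing A] [IsNoetherianRing A]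
    [IsAdicComplete (maximalIdeal A) A]
    [CommRing W] [IsLocalRing W] [IsNoetherianRing W]
    [CommRing P] [IsLocalRing P] [IsNoetherianRing P] [IsAdicComplete (maximalIdeal P) P]
    [CommRing B₀] [IsLocalRing B₀]
    (σ : W →+* A) [IsLocalHom σ] (hσ : Function.Surjective ((residue A).comp σ))
    (θ : W →+* P) [IsLocalHom θ] (hθ : θ.Flat)
    (π : P →+* B₀) (hπ : Function.Surjective π) (hker : RingHom.ker π = (maximalIdeal W).map θ)
    (α : ResidueField A →+* B₀) (hα : π.comp θ = α.comp ((residue A).comp σ)) :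
    ∃ (B : Type u) (_ : CommRing B) (_ : IsLocalRing B) (_ : IsNoetherianRing B) (ι : A →+* B) (ρ : B →+* B₀),
      IsLocalHom ι ∧ IsAdicComplete (maximalIdeal B) B ∧ ι.Flat ∧ Function.Surjective ρ ∧
        RingHom.ker ρ = (maximalIdeal A).map ι ∧ ρ.comp ι = α.comp (residue A) := by
  classical
  obtain ⟨n, v, hv⟩ := Submodule.fg_iff_exists_fin_generating_family.mp (IsNoetherian.noetherian (maximalIdeal A))
  letI := σ.toAlgebra
  have hvm : ∀ i, v i ∈ maximalIdeal A := fun i => hv ▸ Submodule.subset_span ⟨i, rfl⟩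
  obtain ⟨φ, hφ⟩ := ArtKit.exists_evalAdic (R := W) (maximalIdeal A) v hvm
  let R := MvPowerSeries (Fin n) W
  let S := MvPowerSeries (Fin n) P
  have hφC : ∀ c, φ (MvPowerSeries.C c) = σ c := fun c => by
    rw [show (MvPowerSeries.C c : R) = algebraMap W R c by rw [MvPowerSeries.algebraMap_apply]; rfl]
    exact φ.commutes c
  have hXm : (Ideal.span (Set.range MvPowerSeries.X) : Ideal R).map φ.toRingHom = maximalIdeal A := by
    rw [Ideal.map_span, ← Set.range_comp, show φ.toRingHom ∘ MvPowerSeries.X = v from funext hφ]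
    exact hv
  have hφs : Function.Surjective φ := by
    let I : Ideal R := Ideal.span (Set.range MvPowerSeries.X)
    haveI : IsAdicComplete I R := inferInstance
    haveI : IsHausdorff (I.map φ.toRingHom) A := by rw [hXm]; infer_instance
    refine surjective_of_mk_map_comp_surjective (I := I) φ.toRingHom fun z => ?_
    obtain ⟨z, rfl⟩ := Ideal.Quotient.mk_surjective z
    obtain ⟨c, hc⟩ := hσ (residue A z)
    refine ⟨MvPowerSeries.C c, ?_⟩
    show Ideal.Quotient.mk _ (φ (MvPowerSeries.C c)) = _
    rw [hφC, Ideal.Quotient.eq]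
    exact hXm ▸ (Ideal.Quotient.eq.mp hc : σ c - z ∈ maximalIdeal A)
  letI : Algebra R A := φ.toRingHom.toAlgebra
  letI : Algebra R S := (MvPowerSeries.map θ).toAlgebra
  haveI : Module.Flat R S := flat_mvPowerSeries_map θ hθ n
  let B := A ⊗[R] S
  let q : S →+* B := (Algebra.TensorProduct.includeRight : S →ₐ[R] B).toRingHom
  have hqA : ∀ r, q (MvPowerSeries.map θ r) = algebraMap A B (φ r) := fun r =>
    ((Algebra.TensorProduct.includeRight : S →ₐ[R] B).commutes r).trans
      (IsScalarTower.algebraMap_apply R A B r)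
  have hq : Function.Surjective q := fun b => by
    induction b using TensorProduct.induction_on with
    | zero => exact ⟨0, map_zero q⟩
    | add a b ha hb => obtain ⟨a', rfl⟩ := ha; obtain ⟨b', rfl⟩ := hb; exact ⟨a' + b', map_add q a' b'⟩
    | tmul a s =>
      obtain ⟨r, rfl⟩ := hφs a
      refine ⟨r • s, ?_⟩
      show (1 : A) ⊗ₜ[R] (r • s) = φ r ⊗ₜ[R] s
      rw [← TensorProduct.smul_tmul, Algebra.smul_def, mul_one]
      rfl
  let ρS : S →+* B₀ := π.comp MvPowerSeries.constantCoeff
  have hcc : ∀ r : R, residue A (φ r) = residue A (σ (MvPowerSeries.constantCoeff r)) := fun r => by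
    rw [← hφC]
    refine Ideal.Quotient.eq.mpr ?_
    rw [← map_sub, ← hXm]
    exact Ideal.mem_map_of_mem φ.toRingHom (ArtPow.sub_C_constantCoeff_mem r)
  letI : Algebra R B₀ := ((α.comp (residue A)).comp φ.toRingHom).toAlgebra
  let fA : A →ₐ[R] B₀ := { α.comp (residue A) with commutes' := fun r => rfl }
  let fS : S →ₐ[R] B₀ := AlgHom.mk ρS fun r => by
    show π (MvPowerSeries.constantCoeff (MvPowerSeries.map θ r)) = α (residue A (φ r))
    rw [MvPowerSeries.constantCoeff_map, hcc]
    exact RingHom.congr_fun hα _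
  let ρ : B →+* B₀ := (Algebra.TensorProduct.lift fA fS fun a b => Commute.all _ _).toRingHom
  have hρq : ∀ s, ρ (q s) = ρS s := fun s => by
    show (Algebra.TensorProduct.lift fA fS fun a b => Commute.all _ _) ((1 : A) ⊗ₜ[R] s) = _
    rw [Algebra.TensorProduct.lift_tmul, map_one, one_mul]
    rfl
  have hρA : ∀ a, ρ (algebraMap A B a) = α (residue A a) := fun a => by
    show (Algebra.TensorProduct.lift fA fS fun a b => Commute.all _ _) (a ⊗ₜ[R] (1 : S)) = _
    rw [Algebra.TensorProduct.lift_tmul, map_one, mul_one]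
    rfl
  have hρs : Function.Surjective ρ := fun y => by
    obtain ⟨x, rfl⟩ := hπ y
    exact ⟨q (MvPowerSeries.C x), by rw [hρq]; show π (MvPowerSeries.constantCoeff (MvPowerSeries.C x)) = π x; rw [MvPowerSeries.constantCoeff_C]⟩
  haveI : Nontrivial B := ρ.domain_nontrivial
  haveI : IsLocalRing B := IsLocalRing.of_surjective' q hq
  haveI : IsNoetherianRing B := isNoetherianRing_of_surjective S B q hq
  haveI : IsLocalHom q := IsLocalHom.of_surjective q hq
  haveI : IsLocalHom ρ := IsLocalHom.of_surjective ρ hρs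
  have hkerρ : RingHom.ker ρ = (maximalIdeal A).map (algebraMap A B) := by
    refine le_antisymm (fun b hb => ?_) (Ideal.map_le_iff_le_comap.mpr fun a ha => ?_)
    · obtain ⟨s, rfl⟩ := hq b
      rw [RingHom.mem_ker, hρq] at hb
      have hc : MvPowerSeries.constantCoeff s ∈ (maximalIdeal W).map θ := hker ▸ hb
      rw [← sub_add_cancel s (MvPowerSeries.C (MvPowerSeries.constantCoeff s)), map_add]
      refine add_mem ?_ ?_
      · refine (Ideal.span_le (I := Ideal.comap q ((maximalIdeal A).map (algebraMap A B)))).mpr ?_ (ArtPow.sub_C_constantCoeff_mem s)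
        rintro _ ⟨i, rfl⟩
        show q (MvPowerSeries.X i) ∈ (maximalIdeal A).map (algebraMap A B)
        rw [← MvPowerSeries.map_X θ, hqA, hφ]
        exact Ideal.mem_map_of_mem _ (hvm i)
      · refine (Ideal.map_le_iff_le_comap (K := Ideal.comap (q.comp MvPowerSeries.C) ((maximalIdeal A).map (algebraMap A B)))).mpr ?_ hc
        intro w hw
        show q (MvPowerSeries.C (θ w)) ∈ (maximalIdeal A).map (algebraMap A B)
        rw [← MvPowerSeries.map_C, hqA, hφC]
        exact Ideal.mem_map_of_mem _ ((mem_maximalIdeal _).mpr fun h => (mem_maximalIdeal w).mp hw (isUnit_of_map_unit σ w h))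
    · rw [Ideal.mem_comap, RingHom.mem_ker, hρA, (residue_eq_zero_iff a).mpr ha, map_zero]
  haveI : IsLocalHom (algebraMap A B) := ⟨fun a ha => by
    by_contra h
    have := ha.map ρ
    rw [hρA, (residue_eq_zero_iff a).mpr ((mem_maximalIdeal a).mpr h), map_zero] at this
    exact not_isUnit_zero this⟩
  haveI : Module.Flat A B := inferInstance
  refine ⟨B, inferInstance, inferInstance, inferInstance, algebraMap A B, ρ, inferInstance, ?_, ?_, hρs, hkerρ,
    RingHom.ext hρA⟩
  · haveI : IsAdicComplete (maximalIdeal S) S := ArtKit.isAdicComplete_mvPowerSeries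
    letI : Algebra S B := q.toAlgebra
    haveI : Module.Finite S B := Module.Finite.of_surjective (Algebra.linearMap S B) hq
    have hcomp : IsAdicComplete (maximalIdeal S) B := AdicLim.isAdicComplete_of_finite (maximalIdeal S) B
    have hm : (maximalIdeal S).map q = maximalIdeal B := IsLocalRing.map_maximalIdeal_of_surjective q hq
    have key : ∀ n, (maximalIdeal S ^ n • ⊤ : Submodule S B) =
        ((maximalIdeal B ^ n • ⊤ : Submodule B B)).restrictScalars S := fun n => by
      rw [Ideal.smul_top_eq_map, smul_eq_mul, Ideal.mul_top, RingHom.algebraMap_toAlgebra, Ideal.map_pow, hm]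
    exact
      { haus' := fun x hx => IsHausdorff.haus (I := maximalIdeal S) inferInstance x fun n => by
          have := hx n
          rw [SModEq.sub_mem] at this ⊢
          rw [key]; exact this
        prec' := fun f hf => by
          obtain ⟨L, hL⟩ := IsPrecomplete.prec (I := maximalIdeal S) inferInstance (f := f) fun {m n} hmn => by
            have := hf hmn
            rw [SModEq.sub_mem] at this ⊢
            rw [key]; exact this
          exact ⟨L, fun n => by
            have := hL n
            rw [SModEq.sub_mem] at this ⊢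
            rw [key] at this; exact this⟩ }
  · exact RingHom.flat_algebraMap_iff.mpr inferInstance

end Groth.Agent.EGA41FS
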