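/-
Differentials of an adically formally smooth algebra are projective modulo open ideals.
-/
import Mathlib
import Groth.Prelude.Def_EGA41

universe u

namespace Groth.Agent.EGA41FS

open TensorProduct TrivSqZeroExt

variable {A B : Type u} [CommRing A] [CommRing B] [Algebra A B]

theorem projective_of_formallySmoothAdic (𝔞 : Ideal A) (𝔟 : Ideal B)
    (hAB : ∃ k : ℕ, (𝔞 ^ k).map (algebraMap A B) ≤ 𝔟)
    (h : EGA41.IsFormallySmoothAdic A 𝔞 B 𝔟) (𝔄 : Ideal B) (h𝔄 : ∃ n : ℕ, 𝔟 ^ n ≤ 𝔄) :
    Module.Projective (B ⧸ 𝔄) ((B ⧸ 𝔄) ⊗[B] Ω[B⁄A]) := by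
  obtain ⟨k, hk⟩ := hAB
  obtain ⟨n, hn⟩ := h𝔄
  refine Module.Projective.of_lifting_property fun {M N} _ _ _ _ p f hp => ?_
  let C := B ⧸ 𝔄
  letI : Module Cᵐᵒᵖ M := Module.compHom M ((RingHom.id C).fromOpposite mul_comm)
  haveI : IsCentralScalar C M := ⟨fun _ _ => rfl⟩
  letI : Module Cᵐᵒᵖ N := Module.compHom N ((RingHom.id C).fromOpposite mul_comm)
  haveI : IsCentralScalar C N := ⟨fun _ _ => rfl⟩
  letI : Module A M := Module.compHom M (algebraMap A C)
  letI : Module A N := Module.compHom N (algebraMap A C)
  haveI : IsScalarTower A C M := IsScalarTower.of_algebraMap_smul fun _ _ => rfl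
  haveI : IsScalarTower A C N := IsScalarTower.of_algebraMap_smul fun _ _ => rfl
  haveI : IsScalarTower A Cᵐᵒᵖ M := ⟨fun a c m => smul_assoc a c.unop m⟩
  haveI : IsScalarTower A Cᵐᵒᵖ N := ⟨fun a c m => smul_assoc a c.unop m⟩
  let d : B → N := fun x => f ((1 : C) ⊗ₜ KaehlerDifferential.D A B x)
  have hsmul : ∀ (b : B) (ω : Ω[B⁄A]), f ((1 : C) ⊗ₜ (b • ω)) = algebraMap B C b • f ((1 : C) ⊗ₜ ω) := fun b ω => by
    rw [← map_smul, TensorProduct.smul_tmul', TensorProduct.tmul_smul, TensorProduct.smul_tmul']
    simp [Algebra.smul_def]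
    rfl
  have d_add : ∀ x y, d (x + y) = d x + d y := fun x y => by
    simp only [d, map_add, TensorProduct.tmul_add]
  have d_alg : ∀ a, d (algebraMap A B a) = 0 := fun a => by
    simp only [d, Derivation.map_algebraMap, TensorProduct.tmul_zero, map_zero]
  have d_mul : ∀ x y, d (x * y) = algebraMap B C x • d y + algebraMap B C y • d x := fun x y => by
    simp only [d, Derivation.leibniz, TensorProduct.tmul_add, map_add, hsmul]
  let w : B →ₐ[A] TrivSqZeroExt C N :=
    { toFun := fun x => inl (algebraMap B C x) + inr (d x)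
      map_one' := by
        have := d_alg 1
        rw [map_one] at this
        simp [this]
      map_zero' := by
        have := d_alg 0
        rw [map_zero] at this
        simp [this]
      map_add' := fun x y => by apply TrivSqZeroExt.ext <;> simp [d_add] <;> abel
      map_mul' := fun x y => by
        apply TrivSqZeroExt.ext
        · simp
        · simp [d_mul, op_smul_eq_smul]
      commutes' := fun a => by
        apply TrivSqZeroExt.ext
        · show (inl (algebraMap B C (algebraMap A B a)) + inr (d (algebraMap A B a)) : TrivSqZeroExt C N).fst =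
            algebraMap A C a
          simp only [fst_add, fst_inl, fst_inr, add_zero, ← IsScalarTower.algebraMap_apply]
        · simp only [snd_add, snd_inl, snd_inr, zero_add, d_alg]; rfl }
  let π : TrivSqZeroExt C M →ₐ[A] TrivSqZeroExt C N := (TrivSqZeroExt.map p).restrictScalars A
  have hπ : Function.Surjective π := fun z => by
    obtain ⟨m, hm⟩ := hp z.snd
    exact ⟨inl z.fst + inr m, TrivSqZeroExt.ext (by simp [π]) (by simp [π, hm])⟩
  have hJ : IsNilpotent (RingHom.ker π) := ⟨2, by
    rw [pow_two, Ideal.zero_eq_bot, eq_bot_iff, Ideal.mul_le]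
    intro x hx y hy
    have hx1 : x.fst = 0 := by simpa [π] using congrArg TrivSqZeroExt.fst (RingHom.mem_ker.mp hx)
    have hy1 : y.fst = 0 := by simpa [π] using congrArg TrivSqZeroExt.fst (RingHom.mem_ker.mp hy)
    rw [Ideal.mem_bot]
    exact TrivSqZeroExt.ext (by simp [hx1]) (by simp [hx1, hy1, op_smul_eq_smul])⟩
  have hw : ∀ x ∈ 𝔟 ^ (n + n), w x = 0 := fun x hx => by
    rw [pow_add] at hx
    induction hx using Submodule.mul_induction_on' with
    | mem_mul_mem y hy z hz =>
      have hy' : algebraMap B C y = 0 := Ideal.Quotient.eq_zero_iff_mem.mpr (hn hy)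
      have hz' : algebraMap B C z = 0 := Ideal.Quotient.eq_zero_iff_mem.mpr (hn hz)
      have : d (y * z) = 0 := by rw [d_mul, hy', hz', zero_smul, zero_smul, add_zero]
      apply TrivSqZeroExt.ext <;> simp [w, this, hy']
    | add y _ z _ hy hz => rw [map_add, hy, hz, add_zero]
  have ha : ((𝔞 ^ (k * n)).map (algebraMap A (TrivSqZeroExt C M))) = ⊥ := by
    rw [Ideal.map_eq_bot_iff_le_ker]
    intro a ha
    have hb : algebraMap A B a ∈ 𝔄 := by
      apply hn
      have := Ideal.pow_right_mono hk n
      rw [← Ideal.map_pow, ← pow_mul] at this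
      exact this (Ideal.mem_map_of_mem _ ha)
    show algebraMap A (TrivSqZeroExt C M) a = 0
    have h0 : algebraMap A C a = 0 := by
      rw [IsScalarTower.algebraMap_apply A B C]
      exact Ideal.Quotient.eq_zero_iff_mem.mpr hb
    exact TrivSqZeroExt.ext (show algebraMap A C a = 0 from h0) rfl
  let e := Ideal.quotientKerAlgEquivOfSurjective hπ
  obtain ⟨v, hv⟩ := h (TrivSqZeroExt C M) (RingHom.ker π) hJ ⟨_, ha⟩ (e.symm.toAlgHom.comp w)
    ⟨n + n, fun x hx => by simp [hw x hx]⟩
  have hπv : ∀ x, π (v x) = w x := fun x => by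
    have := congrArg e (DFunLike.congr_fun hv x)
    simp only [AlgHom.comp_apply, AlgEquiv.coe_toAlgHom, AlgEquiv.apply_symm_apply] at this
    exact this
  have hfst : ∀ x, (v x).fst = algebraMap B C x := fun x => by
    simpa [π, w] using congrArg TrivSqZeroExt.fst (hπv x)
  have hsnd : ∀ x, p (v x).snd = d x := fun x => by
    simpa [π, w] using congrArg TrivSqZeroExt.snd (hπv x)
  letI : Module B M := Module.compHom M (algebraMap B C)
  haveI : IsScalarTower B C M := IsScalarTower.of_algebraMap_smul fun _ _ => rfl
  haveI : IsScalarTower A B M := IsScalarTower.of_algebraMap_smul fun a m => by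
    show algebraMap B C (algebraMap A B a) • m = algebraMap A C a • m
    rw [← IsScalarTower.algebraMap_apply]
  let D : Derivation A B M :=
    { toFun := fun x => (v x).snd
      map_add' := fun x y => by simp
      map_smul' := fun a x => by
        show (v (a • x)).snd = algebraMap A C a • (v x).snd
        rw [Algebra.smul_def, map_mul, AlgHom.commutes]
        simp [TrivSqZeroExt.algebraMap_eq_inl', op_smul_eq_smul]
      map_one_eq_zero' := by
        show (v 1).snd = 0
        simp
      leibniz' := fun x y => by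
        show (v (x * y)).snd = algebraMap B C x • (v y).snd + algebraMap B C y • (v x).snd
        rw [map_mul, snd_mul, hfst, hfst, op_smul_eq_smul] }
  refine ⟨D.liftKaehlerDifferential.liftBaseChange C, LinearMap.ext fun z => ?_⟩
  induction z using TensorProduct.induction_on with
  | zero => simp only [map_zero]
  | add x y hx hy => rw [map_add, hx, hy, map_add]
  | tmul c ω =>
    have key : ∀ ω, p (D.liftKaehlerDifferential ω) = f ((1 : C) ⊗ₜ ω) := fun ω => by
      have hω : ω ∈ Submodule.span B (Set.range (KaehlerDifferential.D A B)) := by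
        rw [KaehlerDifferential.span_range_derivation]; trivial
      induction hω using Submodule.span_induction with
      | mem x hx =>
        obtain ⟨b, rfl⟩ := hx
        rw [Derivation.liftKaehlerDifferential_comp_D]
        exact hsnd b
      | zero => simp
      | add x y _ _ hx hy => rw [map_add, map_add, TensorProduct.tmul_add, map_add, hx, hy]
      | smul b x _ hx =>
        rw [map_smul, hsmul, ← hx]
        exact map_smul p (algebraMap B C b) _
    rw [LinearMap.comp_apply, LinearMap.liftBaseChange_tmul, map_smul, key, ← map_smul, TensorProduct.smul_tmul',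
      smul_eq_mul, mul_one]

end Groth.Agent.EGA41FS
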