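/-
An ideal as a bare additive group, to carry twisted module structures.
-/
import Mathlib

universe u

namespace Groth.Agent.EGA41FS

/-- The underlying group of an ideal. -/
def Twist {R : Type u} [CommRing R] (J : Ideal R) : Type u := J

noncomputable instance {R : Type u} [CommRing R] (J : Ideal R) : AddCommGroup (Twist J) :=
  inferInstanceAs (AddCommGroup J)

noncomputable instance {R : Type u} [CommRing R] (J : Ideal R) : Module R (Twist J) :=
  inferInstanceAs (Module R J)

/-- The inclusion of the underlying group of an ideal. -/
noncomputable def Twist.val {R : Type u} [CommRing R] {J : Ideal R} : Twist J →+ R := J.subtype.toAddMonoidHom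

theorem Twist.val_injective {R : Type u} [CommRing R] {J : Ideal R} :
    Function.Injective (Twist.val (J := J)) := Subtype.val_injective

theorem Twist.val_mem {R : Type u} [CommRing R] {J : Ideal R} (x : Twist J) : Twist.val x ∈ J := Subtype.prop (x : J)

/-- An element of an ideal as an element of its underlying group. -/
def Twist.mk {R : Type u} [CommRing R] {J : Ideal R} (x : R) (hx : x ∈ J) : Twist J := (⟨x, hx⟩ : J)

@[simp] theorem Twist.val_mk {R : Type u} [CommRing R] {J : Ideal R} (x : R) (hx : x ∈ J) :
    Twist.val (Twist.mk x hx) = x := rfl

@[simp] theorem Twist.val_smul {R : Type u} [CommRing R] {J : Ideal R} (r : R) (x : Twist J) :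
    Twist.val (r • x) = r * Twist.val x := rfl

end Groth.Agent.EGA41FS
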