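/-
Formal smoothness for adic topologies may be tested on square-zero ideals killed by the ideal of the base.
-/
import Groth.Prelude.Def_EGA41

universe u

namespace Groth.Agent.EGA41FS

variable {A B : Type u} [CommRing A] [CommRing B] [Algebra A B]

theorem isFormallySmoothAdic_of_small (𝔞 : Ideal A) (𝔟 : Ideal B)
    (h : ∀ (C : Type u) [CommRing C] [Algebra A C] (J : Ideal C), J ^ 2 = ⊥ → 𝔞.map (algebraMap A C) * J = ⊥ →
      (∃ k : ℕ, (𝔞 ^ k).map (algebraMap A C) = ⊥) →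
      ∀ u : B →ₐ[A] C ⧸ J, (∃ k : ℕ, ∀ x ∈ 𝔟 ^ k, u x = 0) →
        ∃ v : B →ₐ[A] C, (Ideal.Quotient.mkₐ A J).comp v = u) :
    EGA41.IsFormallySmoothAdic A 𝔞 B 𝔟 := by
  suffices main : ∀ (n : ℕ) (C : Type u) [CommRing C] [Algebra A C] (J : Ideal C), IsNilpotent J →
      (J ⊔ 𝔞.map (algebraMap A C)) ^ n * J = ⊥ → (∃ k : ℕ, (𝔞 ^ k).map (algebraMap A C) = ⊥) →
      ∀ u : B →ₐ[A] C ⧸ J, (∃ k : ℕ, ∀ x ∈ 𝔟 ^ k, u x = 0) →
        ∃ v : B →ₐ[A] C, (Ideal.Quotient.mkₐ A J).comp v = u by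
    intro C _ _ J hJ hC u hu
    obtain ⟨q, hq⟩ := id hJ
    obtain ⟨k, hk⟩ := id hC
    rw [Ideal.map_pow] at hk
    refine main (q + k) C J hJ ?_ hC u hu
    rw [eq_bot_iff]
    refine (Ideal.mul_mono_left Ideal.sup_pow_add_le_pow_sup_pow).trans ?_
    rw [hq, hk, Ideal.zero_eq_bot, sup_bot_eq, Ideal.bot_mul]
  intro n
  induction n with
  | zero =>
    intro C _ _ J _ hn _ u _
    rw [pow_zero, one_mul] at hn
    subst hn
    exact ⟨(AlgEquiv.quotientBot A C).toAlgHom.comp u, AlgHom.ext fun x => (AlgEquiv.quotientBot A C).symm_apply_apply (u x)⟩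
  | succ n ih =>
    intro C _ _ J hJ hn hC u ⟨ku, hu⟩
    let L := (J ⊔ 𝔞.map (algebraMap A C)) ^ n * J
    have hLJ : L ≤ J := Ideal.mul_le_right
    have hn' : (J ⊔ 𝔞.map (algebraMap A C)) * L = ⊥ := by
      rw [← mul_assoc, ← pow_succ']; exact hn
    have hL2 : L ^ 2 = ⊥ := eq_bot_iff.mpr <| by
      rw [pow_two, ← hn']
      exact Ideal.mul_mono_left (hLJ.trans le_sup_left)
    have hL1 : 𝔞.map (algebraMap A C) * L = ⊥ := eq_bot_iff.mpr <| by
      rw [← hn']; exact Ideal.mul_mono_left le_sup_right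
    let q := Ideal.Quotient.mk L
    let J' : Ideal (C ⧸ L) := J.map q
    have hq : (algebraMap A (C ⧸ L)) = q.comp (algebraMap A C) := rfl
    obtain ⟨r, hr⟩ := id hJ
    let e : ((C ⧸ L) ⧸ J') ≃ₐ[A] C ⧸ J := DoubleQuot.quotQuotEquivQuotOfLEₐ A hLJ
    have hC' : ∃ k : ℕ, (𝔞 ^ k).map (algebraMap A (C ⧸ L)) = ⊥ := by
      obtain ⟨k, hk⟩ := hC
      exact ⟨k, by rw [hq, ← Ideal.map_map, hk, Ideal.map_bot]⟩
    obtain ⟨v', hv'⟩ := ih (C ⧸ L) J' ⟨r, by rw [← Ideal.map_pow, hr, Ideal.zero_eq_bot, Ideal.map_bot]; rfl⟩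
      (by rw [hq, ← Ideal.map_map, ← Ideal.map_sup, ← Ideal.map_pow, ← Ideal.map_mul, Ideal.map_quotient_self])
      hC' (e.symm.toAlgHom.comp u) ⟨ku, fun x hx => by simp [hu x hx]⟩
    have hev : ∀ x, e (Ideal.Quotient.mk J' (v' x)) = u x := fun x => by
      have := congrArg e (DFunLike.congr_fun hv' x)
      simpa using this
    obtain ⟨v, hv⟩ := h C L hL2 hL1 hC v' ⟨ku * r, fun x hx => by
      have h1 : (𝔟 ^ ku).map v'.toRingHom ≤ J' := Ideal.map_le_iff_le_comap.mpr fun y hy => by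
        rw [Ideal.mem_comap, ← Ideal.Quotient.eq_zero_iff_mem]
        apply e.injective
        rw [map_zero]
        exact (hev y).trans (hu y hy)
      have h2 := Ideal.mem_map_of_mem v'.toRingHom hx
      rw [pow_mul, Ideal.map_pow] at h2
      have h3 := Ideal.pow_right_mono h1 r h2
      rw [← Ideal.map_pow, hr, Ideal.zero_eq_bot, Ideal.map_bot] at h3
      exact h3⟩
    refine ⟨v, AlgHom.ext fun x => ?_⟩
    rw [← hev x, ← DFunLike.congr_fun hv x]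
    rfl

end Groth.Agent.EGA41FS
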