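/-
Flat complete lifts of complete regular local algebras over the residue field.
-/
import Groth.Agent.EGA41FS.FlatLift
import Groth.Agent.EGA41SymGr.Model
import Groth.Agent.S0579
import Groth.Agent.S0558

set_option autoImplicit false
universe u

namespace Groth.Agent.EGA41FS

open IsLocalRing

/-- The subring of `P` over the image of `α` is complete for the kernel of the projection. -/
theorem isAdicComplete_preimage {k P B₀ : Type u} [CommRing k] [CommRing P] [CommRing B₀] (p : P)
    [IsAdicComplete (Ideal.span {p}) P] (π : P →+* B₀) (hker : RingHom.ker π = Ideal.span {p}) (α : k →+* B₀)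
    (R : Subring P) (hR : ∀ x, x ∈ R ↔ π x ∈ α.range) :
    IsAdicComplete (RingHom.ker (π.comp R.subtype)) R := by
  have hpR : p ∈ R := (hR p).mpr ⟨0, by
    rw [map_zero]; exact (RingHom.mem_ker.mp (hker ▸ Ideal.mem_span_singleton_self p : p ∈ RingHom.ker π)).symm⟩
  set K := RingHom.ker (π.comp R.subtype)
  have hmul : ∀ y, p * y ∈ R := fun y => (hR _).mpr ⟨0, by
    rw [map_zero, map_mul, RingHom.mem_ker.mp (hker ▸ Ideal.mem_span_singleton_self p : p ∈ RingHom.ker π), zero_mul]⟩
  have hpK : ∀ y, (⟨p * y, hmul y⟩ : R) ∈ K := fun y => by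
    show π (p * y) = 0
    rw [map_mul, RingHom.mem_ker.mp (hker ▸ Ideal.mem_span_singleton_self p : p ∈ RingHom.ker π), zero_mul]
  have hK1 : ∀ x : R, x ∈ K → (x : P) ∈ Ideal.span {p} := fun x hx => by
    rw [← hker]; exact hx
  have hfwd : ∀ n (x : R), x ∈ K ^ n → (x : P) ∈ Ideal.span {p} ^ n := fun n x hx => by
    have h1 : K.map R.subtype ≤ Ideal.span {p} := Ideal.map_le_iff_le_comap.mpr hK1
    have := Ideal.mem_map_of_mem R.subtype hx
    rw [Ideal.map_pow] at this
    exact Ideal.pow_right_mono h1 n this
  have hbwd : ∀ n (x : R), (x : P) ∈ Ideal.span {p} ^ n → x ∈ K ^ n := by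
    intro n x hx
    cases n with
    | zero => simp
    | succ n =>
      rw [Ideal.span_singleton_pow, Ideal.mem_span_singleton] at hx
      obtain ⟨y, hy⟩ := hx
      have : x = (⟨p * 1, hmul 1⟩ : R) ^ n * ⟨p * y, hmul y⟩ := Subtype.ext (by
        show (x : P) = (p * 1) ^ n * (p * y)
        rw [hy]; ring)
      rw [this, pow_succ]
      exact Ideal.mul_mem_mul (Ideal.pow_mem_pow (hpK 1) n) (hpK y)
  exact
    { haus' := fun x hx => Subtype.ext (IsHausdorff.haus (I := Ideal.span {p}) inferInstance (x : P) fun n => by
        have := hx n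
        rw [SModEq.sub_mem, sub_zero, smul_eq_mul, Ideal.mul_top] at this ⊢
        exact hfwd n x this)
      prec' := fun f hf => by
        obtain ⟨L, hL⟩ := IsPrecomplete.prec (I := Ideal.span {p}) inferInstance (f := fun n => (f n : P)) fun {m n} hmn => by
          have := hf hmn
          rw [SModEq.sub_mem, smul_eq_mul, Ideal.mul_top] at this ⊢
          exact hfwd m _ this
        have h1 := hL 1
        rw [SModEq.sub_mem, smul_eq_mul, Ideal.mul_top, pow_one, ← hker, RingHom.mem_ker, map_sub, sub_eq_zero] at h1
        have hLR : L ∈ R := (hR L).mpr (h1 ▸ (hR _).mp (f 1).2)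
        exact ⟨⟨L, hLR⟩, fun n => by
          have := hL n
          rw [SModEq.sub_mem, smul_eq_mul, Ideal.mul_top] at this ⊢
          exact hbwd n _ this⟩ }

theorem exists_flat_lift_regular (A : Type u) [CommRing A] [IsLocalRing A] [IsNoetherianRing A]
    [IsAdicComplete (maximalIdeal A) A] (B₀ : Type u) [CommRing B₀] [IsRegularLocalRing B₀]
    [IsAdicComplete (maximalIdeal B₀) B₀] (α : ResidueField A →+* B₀) :
    ∃ (B : Type u) (_ : CommRing B) (_ : IsLocalRing B) (_ : IsNoetherianRing B) (ι : A →+* B) (ρ : B →+* B₀),
      IsLocalHom ι ∧ IsAdicComplete (maximalIdeal B) B ∧ ι.Flat ∧ Function.Surjective ρ ∧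
        RingHom.ker ρ = (maximalIdeal A).map ι ∧ ρ.comp ι = α.comp (residue A) := by
  classical
  obtain ⟨q, hq⟩ := CharP.exists (ResidueField A)
  rcases CharP.char_is_prime_or_zero (ResidueField A) q with hp | h0
  · haveI := Fact.mk hp
    haveI := hq
    haveI : CharP B₀ q := charP_of_injective_ringHom α.injective q
    let K := ResidueField B₀
    haveI : CharP K q := charP_of_injective_ringHom ((residue B₀).comp α).injective q
    obtain ⟨W, _, _, hW, ⟨eW⟩, -⟩ := Cohen.exists_cohenRing q (ResidueField A)
    obtain ⟨W', _, _, hW', ⟨eW'⟩, -⟩ := Cohen.exists_cohenRing q K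
    -- spec of the two Cohen rings
    obtain ⟨p, _, hpp, hch, hmax, hpne, _, _⟩ := EGA41Cohen.cohen_spec hW
    obtain ⟨p', _, hpp', hch', hmax', hpne', _, _⟩ := EGA41Cohen.cohen_spec hW'
    haveI := hch; haveI := hch'
    have hpq : p = q := by
      haveI : CharP (ResidueField A) p := charP_of_injective_ringHom (f := eW.toRingHom) eW.injective p
      exact CharP.eq (ResidueField A) ‹CharP (ResidueField A) p› hq
    have hpq' : p' = q := by
      haveI : CharP K p' := charP_of_injective_ringHom (f := eW'.toRingHom) eW'.injective p'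
      exact CharP.eq K ‹CharP K p'› ‹CharP K q›
    -- coefficient ring of the base
    let prA : A →+* ResidueField W := eW.symm.toRingHom.comp (residue A)
    have hprA : Function.Surjective prA := eW.symm.surjective.comp residue_surjective
    haveI : IsAdicComplete (RingHom.ker prA) A := by
      rw [show RingHom.ker prA = maximalIdeal A from eq_maximalIdeal (RingHom.ker_isMaximal_of_surjective prA hprA)]
      infer_instance
    obtain ⟨σ, hσ⟩ := EGA41Cohen.exists_lift_complete hW prA hprA
    have hσres : ∀ w, residue A (σ w) = eW (residue W w) := fun w => by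
      rw [← hσ w]; exact (eW.apply_symm_apply _).symm
    haveI : IsLocalHom σ := ⟨fun w hw => by
      by_contra h
      have := hσres w
      rw [(residue_eq_zero_iff w).mpr ((mem_maximalIdeal w).mpr h), map_zero] at this
      exact (mem_maximalIdeal _).mp ((residue_eq_zero_iff _).mp this) hw⟩
    -- coefficient ring of the closed fibre
    let prB : B₀ →+* ResidueField W' := eW'.symm.toRingHom.comp (residue B₀)
    have hprB : Function.Surjective prB := eW'.symm.surjective.comp residue_surjective
    haveI : IsAdicComplete (RingHom.ker prB) B₀ := by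
      rw [show RingHom.ker prB = maximalIdeal B₀ from eq_maximalIdeal (RingHom.ker_isMaximal_of_surjective prB hprB)]
      infer_instance
    obtain ⟨c, hc⟩ := EGA41Cohen.exists_lift_complete hW' prB hprB
    obtain ⟨d, v, hv⟩ : ∃ (d : ℕ) (v : Fin d → B₀), Ideal.span (Set.range v) = maximalIdeal B₀ ∧
        (d : WithBot ℕ∞) = ringKrullDim B₀ := by
      obtain ⟨g, hg⟩ := Submodule.FG.exists_span_set_encard_eq_spanFinrank (IsNoetherian.noetherian (maximalIdeal B₀))
      haveI := (Set.finite_of_encard_eq_coe hg.1).fintype
      refine ⟨Fintype.card g, fun i => ((Fintype.equivFin g).symm i : B₀), ?_, ?_⟩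
      · rw [show Set.range (fun i => ((Fintype.equivFin g).symm i : B₀)) = g by
          rw [show (fun i => ((Fintype.equivFin g).symm i : B₀)) = Subtype.val ∘ (Fintype.equivFin g).symm from rfl,
            (Fintype.equivFin g).symm.surjective.range_comp, Subtype.range_coe]]
        exact hg.2
      · rw [← IsRegularLocalRing.spanFinrank_maximalIdeal]
        congr 1
        rw [← Nat.card_eq_fintype_card, Nat.card_coe_set_eq, Set.ncard_def, hg.1]
        rfl
    obtain ⟨hv, hd⟩ := hv
    letI := c.toAlgebra
    have hvm : ∀ i, v i ∈ maximalIdeal B₀ := fun i => hv ▸ Ideal.subset_span ⟨i, rfl⟩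
    obtain ⟨π, hπX⟩ := ArtKit.exists_evalAdic (R := W') (maximalIdeal B₀) v hvm
    let P := MvPowerSeries (Fin d) W'
    have hXm : (Ideal.span (Set.range MvPowerSeries.X) : Ideal P).map π.toRingHom = maximalIdeal B₀ := by
      rw [Ideal.map_span, ← Set.range_comp, show π.toRingHom ∘ MvPowerSeries.X = v from funext hπX]
      exact hv
    have hπC : ∀ a, π (MvPowerSeries.C a) = c a := fun a => by
      rw [show (MvPowerSeries.C a : P) = algebraMap W' P a by rw [MvPowerSeries.algebraMap_apply]; rfl]
      exact π.commutes a
    have hπs : Function.Surjective π := by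
      let I : Ideal P := Ideal.span (Set.range MvPowerSeries.X)
      haveI : IsAdicComplete I P := inferInstance
      haveI : IsHausdorff (I.map π.toRingHom) B₀ := by rw [hXm]; infer_instance
      refine surjective_of_mk_map_comp_surjective (I := I) π.toRingHom fun z => ?_
      obtain ⟨z, rfl⟩ := Ideal.Quotient.mk_surjective z
      obtain ⟨w, hw⟩ := residue_surjective (prB z)
      refine ⟨MvPowerSeries.C w, ?_⟩
      show Ideal.Quotient.mk _ (π (MvPowerSeries.C w)) = _
      rw [hπC, Ideal.Quotient.eq, hXm, ← residue_eq_zero_iff, map_sub, sub_eq_zero]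
      exact eW'.symm.injective ((hc w).trans hw)
    let M : P →+* MvPowerSeries (Fin d) (ResidueField W') := MvPowerSeries.map (residue W')
    have hM : Function.Surjective M := fun f => by
      choose g hg using fun n => residue_surjective (MvPowerSeries.coeff n f)
      exact ⟨g, MvPowerSeries.ext fun n => by rw [MvPowerSeries.coeff_map]; exact hg n⟩
    have hp0 : (q : B₀) = 0 := CharP.cast_eq_zero B₀ q
    have hMker : RingHom.ker M = Ideal.span {(q : P)} := by
      refine le_antisymm (fun f hf => ?_) ((Ideal.span_singleton_le_iff_mem _).mpr ?_)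
      · have : ∀ n, ∃ g, MvPowerSeries.coeff n f = (q : W') * g := fun n => by
          have h1 : residue W' (MvPowerSeries.coeff n f) = 0 := by
            rw [← MvPowerSeries.coeff_map]
            show MvPowerSeries.coeff n (M f) = 0
            rw [RingHom.mem_ker.mp hf, map_zero]
          rw [residue_eq_zero_iff, hmax', hpq', Ideal.mem_span_singleton] at h1
          exact h1
        choose g hg using this
        refine Ideal.mem_span_singleton.mpr ⟨g, MvPowerSeries.ext fun n => ?_⟩
        rw [← map_natCast (MvPowerSeries.C : W' →+* P), MvPowerSeries.coeff_C_mul, hg]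
        rfl
      · show M (q : P) = 0
        rw [map_natCast, ← map_natCast (MvPowerSeries.C : ResidueField W' →+* _), ← hpq', CharP.cast_eq_zero, map_zero]
    have hker : RingHom.ker π.toRingHom = Ideal.span {(q : P)} := by
      refine le_antisymm ?_ ((Ideal.span_singleton_le_iff_mem _).mpr (by
        show π (q : P) = 0
        rw [map_natCast, hp0]))
      let πb : MvPowerSeries (Fin d) (ResidueField W') →+* B₀ := M.liftOfSurjective hM ⟨π.toRingHom, by
        rw [hMker, Ideal.span_singleton_le_iff_mem]
        show π (q : P) = 0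
        rw [map_natCast, hp0]⟩
      have hπb : ∀ f, πb (M f) = π f := fun f => RingHom.liftOfSurjective_comp_apply _ _ _ f
      haveI := Cohen.isRegularLocalRing_mvPowerSeries (ResidueField W') d
      haveI := Groth.Agent.S0558.result (MvPowerSeries (Fin d) (ResidueField W'))
      intro f hf
      rw [← hMker, RingHom.mem_ker]
      by_contra hne
      have hnd : M f ∈ nonZeroDivisors (MvPowerSeries (Fin d) (ResidueField W')) := mem_nonZeroDivisors_of_ne_zero hne
      have h1 := ringKrullDim_quotient_succ_le_of_nonZeroDivisor hnd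
      have hπbs : Function.Surjective πb := fun y => by
        obtain ⟨x, rfl⟩ := hπs y
        exact ⟨M x, hπb x⟩
      have h2 : ringKrullDim B₀ ≤ ringKrullDim (MvPowerSeries (Fin d) (ResidueField W') ⧸ Ideal.span {M f}) :=
        ringKrullDim_le_of_surjective (Ideal.Quotient.lift _ πb fun y hy => by
          obtain ⟨z, rfl⟩ := Ideal.mem_span_singleton.mp hy
          rw [map_mul, hπb, show π f = 0 from hf, zero_mul])
          (Ideal.Quotient.lift_surjective_of_surjective _ _ hπbs)
      rw [EGA41SymGr.Model.ringKrullDim_eq] at h1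
      rw [← hd] at h2
      have h3 : (d : WithBot ℕ∞) + 1 ≤ d := le_trans (by gcongr) h1
      rw [← Nat.cast_one, ← Nat.cast_add, Nat.cast_le] at h3
      omega
    haveI := hW.2.1
    haveI : IsRegularLocalRing W' := Cohen.isRegularLocalRing_coeff (Or.inr hW')
    haveI := Cohen.isRegularLocalRing_mvPowerSeries W' d
    haveI := Groth.Agent.S0558.result P
    haveI : IsAdicComplete (maximalIdeal P) P := ArtKit.isAdicComplete_mvPowerSeries
    have hqm : (q : P) ∈ maximalIdeal P := (mem_maximalIdeal _).mpr fun h => by
      have := h.map π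
      rw [map_natCast, hp0] at this
      exact not_isUnit_zero this
    haveI : IsAdicComplete (Ideal.span {(q : P)}) P := EGA41Cohen.isAdicComplete_ideal _ fun h =>
      (maximalIdeal.isMaximal P).ne_top (top_le_iff.mp (h ▸ (Ideal.span_singleton_le_iff_mem _).mpr hqm))
    let R : Subring P := (α.range).comap π.toRingHom
    haveI := isAdicComplete_preimage (k := ResidueField A) (q : P) π.toRingHom hker α R (fun x => Iff.rfl)
    let eα : ResidueField A ≃+* α.range := RingEquiv.ofBijective α.rangeRestrict
      ⟨fun x y h => α.injective (congrArg Subtype.val h), α.rangeRestrict_surjective⟩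
    let prR : R →+* ResidueField W := (eW.symm.toRingHom.comp eα.symm.toRingHom).comp
      ((π.toRingHom.comp R.subtype).codRestrict α.range fun x => x.2)
    have hprR : Function.Surjective prR := fun y => by
      obtain ⟨x, hx⟩ := hπs (α (eW y))
      refine ⟨⟨x, ⟨eW y, hx.symm⟩⟩, ?_⟩
      show eW.symm (eα.symm ⟨π x, _⟩) = y
      rw [show (⟨π x, _⟩ : α.range) = eα (eW y) from Subtype.ext hx, RingEquiv.symm_apply_apply,
        RingEquiv.symm_apply_apply]
    haveI : IsAdicComplete (RingHom.ker prR) R := by
      rw [show RingHom.ker prR = RingHom.ker (π.toRingHom.comp R.subtype) from Ideal.ext fun x => by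
        rw [RingHom.mem_ker, RingHom.mem_ker]
        show eW.symm (eα.symm _) = 0 ↔ _
        rw [map_eq_zero_iff _ eW.symm.injective, map_eq_zero_iff _ eα.symm.injective]
        exact ⟨fun h => congrArg Subtype.val h, fun h => Subtype.ext h⟩]
      infer_instance
    obtain ⟨θR, hθR⟩ := EGA41Cohen.exists_lift_complete hW prR hprR
    let θ : W →+* P := R.subtype.comp θR
    have hπθ : ∀ w, π (θ w) = α (eW (residue W w)) := fun w => by
      have h := hθR w
      have h' : eα.symm ⟨π (θ w), (θR w).2⟩ = eW (residue W w) := by
        rw [← h]; exact (eW.apply_symm_apply _).symm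
      rw [← h']
      exact (congrArg Subtype.val (eα.apply_symm_apply ⟨π (θ w), (θR w).2⟩)).symm
    haveI : IsLocalHom θ := ⟨fun w hw => by
      by_contra h
      have := hw.map π
      rw [hπθ, (residue_eq_zero_iff w).mpr ((mem_maximalIdeal w).mpr h), map_zero, map_zero] at this
      exact not_isUnit_zero this⟩
    have hqP : (q : P) ≠ 0 := fun h => by
      have := congrArg MvPowerSeries.constantCoeff h
      rw [map_natCast, map_zero, ← hpq'] at this
      exact hpne' this
    have hθinj : Function.Injective θ := by
      rw [injective_iff_map_eq_zero]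
      intro w hw
      by_contra hne
      haveI : IsDiscreteValuationRing W := by assumption
      have hirr : Irreducible (p : W) := (IsDiscreteValuationRing.irreducible_iff_uniformizer _).mpr hmax
      obtain ⟨m, hm⟩ := IsDiscreteValuationRing.associated_pow_irreducible hne hirr
      obtain ⟨e, he⟩ := hm
      have hm' := congrArg θ he
      rw [map_mul, hw, zero_mul, map_pow, map_natCast, hpq] at hm'
      exact pow_ne_zero m hqP hm'.symm
    have hθf : θ.Flat := by
      letI := θ.toAlgebra
      haveI : FaithfulSMul W P := (faithfulSMul_iff_algebraMap_injective W P).mpr hθinj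
      haveI : Module.IsTorsionFree W P := inferInstance
      show Module.Flat W P
      infer_instance
    haveI : IsLocalRing B₀ := inferInstance
    refine exists_flat_lift σ (fun y => ?_) θ hθf π.toRingHom hπs ?_ α (RingHom.ext fun w => ?_)
    · obtain ⟨w, hw⟩ := residue_surjective (eW.symm y)
      exact ⟨w, by show residue A (σ w) = y; rw [hσres, hw, RingEquiv.apply_symm_apply]⟩
    · rw [hker, hmax, Ideal.map_span, Set.image_singleton, map_natCast, hpq]
    · show π (θ w) = α (residue A (σ w))
      rw [hπθ, hσres]
  · subst h0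
    haveI : CharZero (ResidueField A) := CharP.charP_to_charZero _
    obtain ⟨s, hs⟩ := Groth.Agent.S0579.result A
    haveI : IsLocalHom s := ⟨fun x hx => by
      by_contra h
      rw [show x = 0 by rwa [isUnit_iff_ne_zero, not_not] at h, map_zero] at hx
      exact not_isUnit_zero hx⟩
    haveI : IsLocalHom α := ⟨fun x hx => by
      by_contra h
      rw [show x = 0 by rwa [isUnit_iff_ne_zero, not_not] at h, map_zero] at hx
      exact not_isUnit_zero hx⟩
    refine exists_flat_lift s (fun y => ⟨y, RingHom.congr_fun hs y⟩) α ?_ (RingHom.id B₀) Function.surjective_id ?_ α ?_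
    · exact RingHom.Flat.of_isField (Field.toIsField _) α
    · rw [show maximalIdeal (ResidueField A) = ⊥ from isField_iff_maximalIdeal_eq.mp (Field.toIsField _), Ideal.map_bot]
      exact (RingHom.injective_iff_ker_eq_bot _).mp Function.injective_id
    · rw [RingHom.id_comp, hs, RingHom.comp_id]

end Groth.Agent.EGA41FS
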