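/-
Formal smoothness for the adic topologies of local rings may be tested on Artinian local rings.
-/
import Mathlib
import Groth.Prelude.Def_EGA41
import Groth.Agent.EGA41FS.SmallStep

set_option autoImplicit false
universe u

namespace Groth.Agent.EGA41FS

open IsLocalRing

variable {A B : Type u} [CommRing A] [CommRing B] [Algebra A B]

/-- The preimage in `C` of the ideal generated by the image of `𝔟` in `C ⧸ J`. -/
abbrev preIdeal {C : Type u} [CommRing C] [Algebra A C] (J : Ideal C) (u : B →ₐ[A] C ⧸ J) (𝔟 : Ideal B) : Ideal C :=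
  (𝔟.map u.toRingHom).comap (Ideal.Quotient.mk J)

/-- It suffices to test on square-zero ideals killed by the ideal of the source. -/
theorem isFormallySmoothAdic_of_killed (𝔞 : Ideal A) (𝔟 : Ideal B)
    (h : ∀ (C : Type u) [CommRing C] [Algebra A C] (J : Ideal C), J ^ 2 = ⊥ →
      (∃ k : ℕ, (𝔞 ^ k).map (algebraMap A C) = ⊥) →
      ∀ u : B →ₐ[A] C ⧸ J, (∃ k : ℕ, ∀ x ∈ 𝔟 ^ k, u x = 0) → preIdeal J u 𝔟 * J = ⊥ →
        ∃ v : B →ₐ[A] C, (Ideal.Quotient.mkₐ A J).comp v = u) :
    EGA41.IsFormallySmoothAdic A 𝔞 B 𝔟 := by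
  refine isFormallySmoothAdic_of_small 𝔞 𝔟 fun C _ _ J hJ2 _ hC u hu => ?_
  suffices main : ∀ (n : ℕ) (C : Type u) [CommRing C] [Algebra A C] (J : Ideal C), J ^ 2 = ⊥ →
      (∃ k : ℕ, (𝔞 ^ k).map (algebraMap A C) = ⊥) →
      ∀ u : B →ₐ[A] C ⧸ J, (∃ k : ℕ, ∀ x ∈ 𝔟 ^ k, u x = 0) → preIdeal J u 𝔟 ^ n * J = ⊥ →
        ∃ v : B →ₐ[A] C, (Ideal.Quotient.mkₐ A J).comp v = u by
    obtain ⟨k, hk⟩ := id hu
    refine main k C J hJ2 hC u hu (eq_bot_iff.mpr ?_)
    refine (Ideal.mul_mono_left ((Ideal.le_comap_pow _ k).trans ?_)).trans (le_of_eq (by rw [← pow_two, hJ2]))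
    rw [← Ideal.map_pow, show (𝔟 ^ k).map u.toRingHom = ⊥ from eq_bot_iff.mpr (Ideal.map_le_iff_le_comap.mpr hk)]
    exact le_of_eq (by rw [← RingHom.ker_eq_comap_bot, Ideal.mk_ker])
  intro n
  induction n with
  | zero =>
    intro C _ _ J _ _ u _ hn
    rw [pow_zero, one_mul] at hn
    subst hn
    exact ⟨(AlgEquiv.quotientBot A C).toAlgHom.comp u, AlgHom.ext fun x => (AlgEquiv.quotientBot A C).symm_apply_apply (u x)⟩
  | succ n ih =>
    intro C _ _ J hJ2 hC u hu hn
    let N := preIdeal J u 𝔟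
    let L := N ^ n * J
    have hLJ : L ≤ J := Ideal.mul_le_right
    have hNL : N * L = ⊥ := by rw [← mul_assoc, ← pow_succ']; exact hn
    let q := Ideal.Quotient.mk L
    let J' : Ideal (C ⧸ L) := J.map q
    let e : ((C ⧸ L) ⧸ J') ≃ₐ[A] C ⧸ J := DoubleQuot.quotQuotEquivQuotOfLEₐ A hLJ
    have hpre : preIdeal J' (e.symm.toAlgHom.comp u) 𝔟 ≤ N.map q := fun x hx => by
      obtain ⟨c, rfl⟩ := Ideal.Quotient.mk_surjective x
      refine Ideal.mem_map_of_mem q ?_
      show Ideal.Quotient.mk J c ∈ 𝔟.map u.toRingHom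
      have hx' : Ideal.Quotient.mk J' (q c) ∈ 𝔟.map (e.symm.toAlgHom.comp u).toRingHom := hx
      have h1 := Ideal.mem_map_of_mem e.toAlgHom.toRingHom hx'
      rw [Ideal.map_map, show e.toAlgHom.toRingHom.comp (e.symm.toAlgHom.comp u).toRingHom = u.toRingHom from
        RingHom.ext fun b => e.apply_symm_apply (u b)] at h1
      exact h1
    obtain ⟨v', hv'⟩ := ih (C ⧸ L) J'
      (by rw [← Ideal.map_pow, hJ2, Ideal.map_bot])
      (by
        obtain ⟨k, hk⟩ := hC
        exact ⟨k, by rw [show algebraMap A (C ⧸ L) = q.comp (algebraMap A C) from rfl, ← Ideal.map_map, hk, Ideal.map_bot]⟩)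
      (e.symm.toAlgHom.comp u)
      (by
        obtain ⟨k, hk⟩ := hu
        exact ⟨k, fun x hx => by simp [hk x hx]⟩)
      (eq_bot_iff.mpr <| (Ideal.mul_mono_left (Ideal.pow_right_mono hpre n)).trans <| by
        rw [← Ideal.map_pow, ← Ideal.map_mul, Ideal.map_quotient_self])
    have hev : ∀ x, e (Ideal.Quotient.mk J' (v' x)) = u x := fun x => by
      have := congrArg e (DFunLike.congr_fun hv' x)
      simpa using this
    have hL2 : L ^ 2 = ⊥ := eq_bot_iff.mpr <| by
      rw [pow_two, ← hJ2, pow_two]; exact Ideal.mul_mono hLJ hLJ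
    have hJN : J ≤ N := fun x hx => by
      show Ideal.Quotient.mk J x ∈ 𝔟.map u.toRingHom
      rw [Ideal.Quotient.eq_zero_iff_mem.mpr hx]; exact zero_mem _
    have hN' : preIdeal L v' 𝔟 ≤ N := fun x hx => by
      show Ideal.Quotient.mk J x ∈ 𝔟.map u.toRingHom
      have h1 : Ideal.Quotient.mk L x ∈ 𝔟.map v'.toRingHom := hx
      have h2 := Ideal.mem_map_of_mem (e.toAlgHom.comp (Ideal.Quotient.mkₐ A J')).toRingHom h1
      rw [Ideal.map_map, show ((e.toAlgHom.comp (Ideal.Quotient.mkₐ A J')).toRingHom.comp v'.toRingHom) = u.toRingHom from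
        RingHom.ext hev] at h2
      exact h2
    obtain ⟨v, hv⟩ := h C L hL2 hC v' (by
        obtain ⟨k, hk⟩ := hu
        refine ⟨2 * k, fun x hx => ?_⟩
        have h1 : (𝔟 ^ k).map v'.toRingHom ≤ J' := Ideal.map_le_iff_le_comap.mpr fun y hy => by
          rw [Ideal.mem_comap, ← Ideal.Quotient.eq_zero_iff_mem]
          apply e.injective
          rw [map_zero]
          exact (hev y).trans (hk y hy)
        rw [mul_comm, pow_mul] at hx
        have h3 := Ideal.pow_right_mono h1 2 (by rw [← Ideal.map_pow]; exact Ideal.mem_map_of_mem v'.toRingHom hx)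
        rw [← Ideal.map_pow, hJ2, Ideal.map_bot] at h3
        exact h3)
      (eq_bot_iff.mpr ((Ideal.mul_mono_left hN').trans hNL.le))
    refine ⟨v, AlgHom.ext fun x => ?_⟩
    rw [← hev x, ← DFunLike.congr_fun hv x]
    rfl

/-- Lifting along an extension by a vector space follows from lifting along extensions by lines. -/
theorem exists_lift_of_artinian_test {C : Type u} [CommRing C] [IsLocalRing C] [Algebra A C] (J : Ideal C)
    (hJ2 : J ^ 2 = ⊥) (hJ : J ≤ maximalIdeal C) (hmJ : maximalIdeal C * J = ⊥) [IsArtinianRing (C ⧸ J)]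
    (u : B →ₐ[A] C ⧸ J)
    (h : ∀ (H : Ideal C) (hHJ : H ≤ J), IsArtinianRing (C ⧸ H) →
      ∃ f : B →ₐ[A] C ⧸ H, (Ideal.Quotient.factorₐ A hHJ).comp f = u) :
    ∃ v : B →ₐ[A] C, (Ideal.Quotient.mkₐ A J).comp v = u := by
  classical
  have htor : Module.IsTorsionBySet C J (maximalIdeal C : Set C) := fun x a => Subtype.ext <| by
    show (a : C) * (x : C) = 0
    have := Ideal.mul_mem_mul a.2 x.2
    rwa [hmJ] at this
  letI : Module (ResidueField C) J := htor.module
  haveI : IsScalarTower C (ResidueField C) J := htor.isScalarTower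
  let κ := ResidueField C
  let β := Module.Free.chooseBasis κ J
  let ι := Module.Free.ChooseBasisIndex κ J
  let e : J →ₗ[κ] (ι → κ) := Finsupp.lcoeFun ∘ₗ β.repr.toLinearMap
  have he : Function.Injective e := DFunLike.coe_injective.comp β.repr.injective
  obtain ⟨r, hr⟩ := LinearMap.exists_leftInverse_of_injective e (LinearMap.ker_eq_bot.mpr he)
  let φ : ι → J →ₗ[C] κ := fun i => ((LinearMap.proj i).comp e).restrictScalars C
  let H : ι → Ideal C := fun i => (LinearMap.ker (φ i)).map J.subtype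
  have hHJ : ∀ i, H i ≤ J := fun i => by rintro _ ⟨x, -, rfl⟩; exact x.2
  have hH : ∀ i (x : J), (x : C) ∈ H i ↔ φ i x = 0 := fun i x => by
    refine ⟨?_, fun hx => ⟨x, hx, rfl⟩⟩
    rintro ⟨y, hy, hyx⟩
    rwa [← Subtype.ext (show (y : C) = x from hyx)]
  have hart : ∀ i, IsArtinianRing (C ⧸ H i) := fun i => by
    let g : C ⧸ H i →ₗ[C] C ⧸ J := (Ideal.Quotient.factorₐ C (hHJ i)).toLinearMap
    haveI : IsArtinian C (C ⧸ J) :=
      isArtinian_of_surjective_algebraMap (R := C ⧸ J) Ideal.Quotient.mk_surjective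
    haveI : IsArtinian C κ :=
      isArtinian_of_surjective_algebraMap (R := κ) residue_surjective
    haveI : IsArtinian C (J ⧸ LinearMap.ker (φ i)) :=
      isArtinian_of_injective ((LinearMap.ker (φ i)).liftQ (φ i) le_rfl) (LinearMap.ker_eq_bot.mp (Submodule.ker_liftQ_eq_bot _ _ _ le_rfl))
    let f : (J ⧸ LinearMap.ker (φ i)) →ₗ[C] C ⧸ H i :=
      Submodule.mapQ _ (H i) J.subtype fun x hx => ⟨x, hx, rfl⟩
    haveI : IsArtinian C (C ⧸ H i) := isArtinian_of_range_eq_ker f g <| by
      refine le_antisymm ?_ fun x hx => ?_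
      · rintro _ ⟨y, rfl⟩
        obtain ⟨y, rfl⟩ := Submodule.mkQ_surjective _ y
        exact Ideal.Quotient.eq_zero_iff_mem.mpr y.2
      · obtain ⟨x, rfl⟩ := Ideal.Quotient.mk_surjective x
        exact ⟨Submodule.Quotient.mk ⟨x, Ideal.Quotient.eq_zero_iff_mem.mp hx⟩, rfl⟩
    exact isArtinian_of_tower C (inferInstance : IsArtinian C (C ⧸ H i))
  choose f hf using fun i => h (H i) (hHJ i) (hart i)
  choose t ht using fun i b => Ideal.Quotient.mk_surjective (f i b)
  choose s hs using fun b => Ideal.Quotient.mk_surjective (u b)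
  have hts : ∀ i b, t i b - s b ∈ J := fun i b => by
    refine Ideal.Quotient.eq.mp ?_
    rw [hs, ← DFunLike.congr_fun (hf i) b, AlgHom.comp_apply, ← ht i b]
    rfl
  let Δ : B → ι → κ := fun b i => φ i ⟨t i b - s b, hts i b⟩
  have hdef : ∀ i (x y : J), (x : C) - y ∈ H i → φ i x = φ i y := fun i x y hxy => by
    rw [← sub_eq_zero, ← map_sub]
    exact (hH i (x - y)).mp hxy
  let v : B → C := fun b => s b + r (Δ b)
  have hre : ∀ x : J, r (e x) = x := fun x => LinearMap.congr_fun hr x
  have hv1 : ∀ a : A, v (algebraMap A B a) = algebraMap A C a := fun a => by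
    have hmem : algebraMap A C a - s (algebraMap A B a) ∈ J := by
      refine Ideal.Quotient.eq.mp ?_
      rw [hs, AlgHom.commutes]; rfl
    have : Δ (algebraMap A B a) = e ⟨_, hmem⟩ := funext fun i => by
      refine hdef i ⟨_, hts i _⟩ ⟨_, hmem⟩ ?_
      show t i _ - s _ - (algebraMap A C a - s _) ∈ H i
      rw [sub_sub_sub_cancel_right, ← Ideal.Quotient.eq, ht, AlgHom.commutes]
      rfl
    show s _ + (r (Δ _) : C) = _
    rw [this, hre]
    exact add_sub_cancel _ _
  have hvadd : ∀ a b, v (a + b) = v a + v b := fun a b => by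
    have hmem : s a + s b - s (a + b) ∈ J := by
      refine Ideal.Quotient.eq.mp ?_
      rw [map_add, hs, hs, hs, map_add]
    have : Δ (a + b) = Δ a + Δ b + e ⟨_, hmem⟩ := funext fun i => by
      show φ i _ = φ i _ + φ i _ + φ i ⟨_, hmem⟩
      rw [← map_add, ← map_add]
      refine hdef i _ _ ?_
      show t i (a + b) - s (a + b) - ((t i a - s a) + (t i b - s b) + (s a + s b - s (a + b))) ∈ H i
      rw [show t i (a + b) - s (a + b) - ((t i a - s a) + (t i b - s b) + (s a + s b - s (a + b))) =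
        t i (a + b) - (t i a + t i b) by ring, ← Ideal.Quotient.eq, map_add, ht, ht, ht, map_add]
    show s _ + (r (Δ _) : C) = (s a + r (Δ a)) + (s b + r (Δ b))
    rw [this, map_add, map_add, hre, Submodule.coe_add, Submodule.coe_add]
    ring
  have hvmul : ∀ a b, v (a * b) = v a * v b := fun a b => by
    have hmem : s a * s b - s (a * b) ∈ J := by
      refine Ideal.Quotient.eq.mp ?_
      rw [map_mul, hs, hs, hs, map_mul]
    have : Δ (a * b) = residue C (s a) • Δ b + residue C (s b) • Δ a + e ⟨_, hmem⟩ := funext fun i => by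
      show φ i _ = residue C (s a) • φ i _ + residue C (s b) • φ i _ + φ i ⟨_, hmem⟩
      rw [show residue C (s a) = algebraMap C κ (s a) from rfl, show residue C (s b) = algebraMap C κ (s b) from rfl,
        algebraMap_smul, algebraMap_smul, ← map_smul, ← map_smul, ← map_add, ← map_add]
      refine hdef i _ _ ?_
      show t i (a * b) - s (a * b) -
        (s a * (t i b - s b) + s b * (t i a - s a) + (s a * s b - s (a * b))) ∈ H i
      have h0 : (t i a - s a) * (t i b - s b) = 0 := by
        have := Ideal.mul_mem_mul (hts i a) (hts i b)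
        rwa [← pow_two, hJ2] at this
      rw [show t i (a * b) - s (a * b) - (s a * (t i b - s b) + s b * (t i a - s a) + (s a * s b - s (a * b))) =
        t i (a * b) - (t i a * t i b - (t i a - s a) * (t i b - s b)) by ring, h0, sub_zero, ← Ideal.Quotient.eq,
        map_mul, ht, ht, ht, map_mul]
    have h0 : (r (Δ a) : C) * (r (Δ b) : C) = 0 := by
      have := Ideal.mul_mem_mul (r (Δ a)).2 (r (Δ b)).2
      rwa [← pow_two, hJ2] at this
    show s _ + (r (Δ _) : C) = (s a + r (Δ a)) * (s b + r (Δ b))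
    rw [this, map_add, map_add, map_smul, map_smul, hre, show residue C (s a) = algebraMap C κ (s a) from rfl,
      show residue C (s b) = algebraMap C κ (s b) from rfl, algebraMap_smul, algebraMap_smul]
    show s (a * b) + (s a * (r (Δ b) : C) + s b * (r (Δ a) : C) + (s a * s b - s (a * b))) = _
    linear_combination -h0
  refine ⟨
    { toFun := v
      map_one' := by have := hv1 1; rwa [map_one, map_one] at this
      map_mul' := hvmul
      map_zero' := by have := hv1 0; rwa [map_zero, map_zero] at this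
      map_add' := hvadd
      commutes' := hv1 }, AlgHom.ext fun b => ?_⟩
  show Ideal.Quotient.mk J (s b + r (Δ b)) = u b
  rw [map_add, hs, Ideal.Quotient.eq_zero_iff_mem.mpr (r (Δ b)).2, add_zero]

end Groth.Agent.EGA41FS
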