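/-
A flat algebra with formally smooth fibre lifts along nilpotent ideals of test algebras killed by a power of the
ideal of the base.
-/
import Mathlib

universe u

namespace Groth.Agent.EGA41FS

variable {R S : Type u} [CommRing R] [CommRing S] [Algebra R S]

theorem inf_map_le_mul {P : Type u} [CommRing P] [Algebra R P] [Module.Flat R S] (I : Ideal R) (f : P →ₐ[R] S)
    (hf : Function.Surjective f) :
    RingHom.ker f.toRingHom ⊓ I.map (algebraMap R P) ≤ I.map (algebraMap R P) * RingHom.ker f.toRingHom := by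
  classical
  intro x hx
  obtain ⟨hx0, hxI⟩ := Submodule.mem_inf.mp hx
  have hux : f x = 0 := RingHom.mem_ker.mp hx0
  have hxJ : x ∈ I • (⊤ : Submodule R P) := by rw [Ideal.smul_top_eq_map]; exact hxI
  rw [← Submodule.span_univ, ← Subtype.range_coe (s := (Set.univ : Set P)),
    Submodule.mem_ideal_smul_span_iff_exists_sum] at hxJ
  obtain ⟨a, ha, hax⟩ := hxJ
  let fA : a.support → R := fun i => a i
  let xB : a.support → S := fun i => f (i : Set.univ).1
  have hrel : ∑ i, fA i • xB i = 0 := by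
    rw [← hux, ← hax, map_finsuppSum, Finsupp.sum, ← Finset.sum_coe_sort a.support]
    exact Finset.sum_congr rfl fun i _ => (map_smul f (a i) _).symm
  obtain ⟨κ, c, y, hy, hc⟩ := Module.Flat.isTrivialRelation_of_sum_smul_eq_zero (R := R) (M := S) hrel
  choose z hz using fun j => hf (y j)
  have hmem : ∀ i : a.support, (i : Set.univ).1 - ∑ j, c i j • z j ∈ RingHom.ker f.toRingHom := fun i => by
    rw [RingHom.mem_ker]
    show f _ = 0
    rw [map_sub, map_sum, show f (i : Set.univ).1 = _ from hy i, sub_eq_zero]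
    exact Finset.sum_congr rfl fun j _ => by rw [map_smul, hz]
  have hxe : x = ∑ i : a.support, algebraMap R P (a i) * ((i : Set.univ).1 - ∑ j, c i j • z j) := by
    rw [← hax, Finsupp.sum, ← Finset.sum_coe_sort]
    simp only [← Algebra.smul_def, smul_sub, Finset.sum_sub_distrib, Finset.smul_sum, smul_smul]
    rw [Finset.sum_comm]
    have hc' : ∀ j, ∑ i : a.support, a i * c i j = 0 := hc
    simp only [← Finset.sum_smul, hc', zero_smul, Finset.sum_const_zero, sub_zero]
  rw [hxe]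
  exact sum_mem fun i _ => Ideal.mul_mem_mul (Ideal.mem_map_of_mem _ (ha _)) (hmem i)

theorem lift_of_flat_fibre_core [Module.Flat R S] (I : Ideal R)
    [Algebra (R ⧸ I) (S ⧸ I.map (algebraMap R S))] [IsScalarTower R (R ⧸ I) (S ⧸ I.map (algebraMap R S))]
    [Algebra.FormallySmooth (R ⧸ I) (S ⧸ I.map (algebraMap R S))]
    {C : Type u} [CommRing C] [Algebra R C] (J : Ideal C) (hJ : J ^ 2 = ⊥)
    (hIJ : I.map (algebraMap R C) * J = ⊥) (u : S →ₐ[R] C ⧸ J) :
    ∃ v : S →ₐ[R] C, (Ideal.Quotient.mkₐ R J).comp v = u := by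
  classical
  let P := MvPolynomial S R
  let f : P →ₐ[R] S := MvPolynomial.aeval id
  have hf : Function.Surjective f := fun s => ⟨MvPolynomial.X s, MvPolynomial.aeval_X _ _⟩
  choose c hc using fun s : S => Ideal.Quotient.mk_surjective (u s)
  let g : P →ₐ[R] C := MvPolynomial.aeval c
  have hgu : ∀ p, Ideal.Quotient.mk J (g p) = u (f p) := by
    refine fun p => DFunLike.congr_fun (?_ : (Ideal.Quotient.mkₐ R J).comp g = u.comp f) p
    exact MvPolynomial.algHom_ext fun s => by simp [g, f, hc]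
  let K := RingHom.ker f.toRingHom
  let IP := I.map (algebraMap R P)
  let L := K ^ 2 ⊔ IP * K
  have hgK : ∀ p ∈ K, g p ∈ J := fun p hp => by
    rw [← Ideal.Quotient.eq_zero_iff_mem, hgu, show f p = 0 from RingHom.mem_ker.mp hp, map_zero]
  have hgL : ∀ p ∈ L, g p = 0 := by
    have h1 : K.map g.toRingHom ≤ J := Ideal.map_le_iff_le_comap.mpr hgK
    have h2 : IP.map g.toRingHom = I.map (algebraMap R C) := by
      rw [Ideal.map_map]; exact congrArg (Ideal.map · I) (RingHom.ext g.commutes)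
    intro p hp
    have hle : L.map g.toRingHom ≤ ⊥ := by
      rw [Ideal.map_sup, Ideal.map_pow, Ideal.map_mul, h2, sup_le_iff]
      exact ⟨(Ideal.pow_right_mono h1 2).trans_eq hJ, (Ideal.mul_mono_right h1).trans_eq hIJ⟩
    exact (Submodule.mem_bot _).mp (hle (Ideal.mem_map_of_mem g.toRingHom hp))
  let N := K ^ 2 ⊔ IP
  let fbar : P →ₐ[R] S ⧸ I.map (algebraMap R S) := (Ideal.Quotient.mkₐ R _).comp f
  have hfbar : ∀ p, fbar p = 0 → ∃ k ∈ K, p - k ∈ IP := fun p hp => by
    have h1 : f p ∈ IP.map f.toRingHom := by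
      rw [Ideal.map_map, show f.toRingHom.comp (algebraMap R P) = algebraMap R S from RingHom.ext f.commutes]
      exact Ideal.Quotient.eq_zero_iff_mem.mp hp
    obtain ⟨i, hi, hie⟩ := (Ideal.mem_map_iff_of_surjective f.toRingHom hf).mp h1
    exact ⟨p - i, RingHom.mem_ker.mpr (by show f (p - i) = 0; rw [map_sub]; exact sub_eq_zero.mpr hie.symm),
      by simpa using hi⟩
  have hN : ∀ x ∈ N, fbar x = 0 := by
    have hle : N ≤ RingHom.ker fbar.toRingHom := by
      refine sup_le ((Ideal.pow_le_self two_ne_zero).trans fun x hx => ?_) (Ideal.map_le_iff_le_comap.mpr fun r hr => ?_)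
      · show Ideal.Quotient.mk _ (f x) = 0
        rw [show f x = 0 from RingHom.mem_ker.mp hx, map_zero]
      · show Ideal.Quotient.mk _ (f (algebraMap R P r)) = 0
        rw [AlgHom.commutes]
        exact Ideal.Quotient.eq_zero_iff_mem.mpr (Ideal.mem_map_of_mem _ hr)
    exact fun x hx => RingHom.mem_ker.mp (hle hx)
  let π : P ⧸ N →ₐ[R] S ⧸ I.map (algebraMap R S) := Ideal.Quotient.liftₐ N fbar hN
  have hπs : Function.Surjective π := fun y => by
    obtain ⟨s, rfl⟩ := Ideal.Quotient.mk_surjective y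
    obtain ⟨p, rfl⟩ := hf s
    exact ⟨Ideal.Quotient.mk N p, rfl⟩
  have hker : ∀ r ∈ I, algebraMap R (P ⧸ N) r = 0 := fun r hr =>
    Ideal.Quotient.eq_zero_iff_mem.mpr (Ideal.mem_sup_right (Ideal.mem_map_of_mem _ hr))
  letI : Algebra (R ⧸ I) (P ⧸ N) := (Ideal.Quotient.lift I (algebraMap R (P ⧸ N)) hker).toAlgebra
  haveI : IsScalarTower R (R ⧸ I) (P ⧸ N) := IsScalarTower.of_algebraMap_eq fun r => rfl
  let π' : P ⧸ N →ₐ[R ⧸ I] S ⧸ I.map (algebraMap R S) :=
    π.extendScalarsOfSurjective Ideal.Quotient.mk_surjective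
  have hπ'k : IsNilpotent (RingHom.ker (π' : P ⧸ N →+* S ⧸ I.map (algebraMap R S))) := by
    refine ⟨2, ?_⟩
    set K' : Ideal (P ⧸ N) := RingHom.ker (π' : P ⧸ N →+* S ⧸ I.map (algebraMap R S))
    suffices h : K' * K' = ⊥ from (pow_two K').trans h
    refine eq_bot_iff.mpr (Ideal.mul_le.mpr fun x hx y hy => ?_)
    obtain ⟨x, rfl⟩ := Ideal.Quotient.mk_surjective x
    obtain ⟨y, rfl⟩ := Ideal.Quotient.mk_surjective y
    obtain ⟨k, hk, hk'⟩ := hfbar x (RingHom.mem_ker.mp hx)
    obtain ⟨l, hl, hl'⟩ := hfbar y (RingHom.mem_ker.mp hy)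
    rw [Submodule.mem_bot, ← map_mul, Ideal.Quotient.eq_zero_iff_mem,
      show x * y = k * l + ((x - k) * y + k * (y - l)) by ring]
    refine add_mem (Ideal.mem_sup_left ?_) (Ideal.mem_sup_right (add_mem (Ideal.mul_mem_right _ _ hk') (Ideal.mul_mem_left _ _ hl')))
    rw [pow_two]
    exact Ideal.mul_mem_mul hk hl
  let σ := Algebra.FormallySmooth.liftOfSurjective (AlgHom.id (R ⧸ I) (S ⧸ I.map (algebraMap R S))) π' hπs hπ'k
  have hσ : ∀ y, π (σ y) = y :=
    Algebra.FormallySmooth.liftOfSurjective_apply (AlgHom.id (R ⧸ I) (S ⧸ I.map (algebraMap R S))) π' hπs hπ'k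
  let σR : S →ₐ[R] P ⧸ N := (σ.restrictScalars R).comp (Ideal.Quotient.mkₐ R _)
  have hex : ∀ s, ∃ q, f q = s ∧ Ideal.Quotient.mk N q = σR s := fun s => by
    obtain ⟨q, hq⟩ := Ideal.Quotient.mk_surjective (σR s)
    obtain ⟨p, rfl⟩ := hf s
    have h0 : fbar (p - q) = 0 := by
      have h := hσ (Ideal.Quotient.mk _ (f p))
      rw [show σ (Ideal.Quotient.mk _ (f p)) = σR (f p) from rfl, ← hq] at h
      rw [map_sub, sub_eq_zero]
      exact h.symm
    obtain ⟨k, hk, hk'⟩ := hfbar _ h0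
    refine ⟨p - k, by rw [map_sub, show f k = 0 from RingHom.mem_ker.mp hk, sub_zero], ?_⟩
    rw [← hq, Ideal.Quotient.eq, show p - k - q = p - q - k by ring]
    exact Ideal.mem_sup_right hk'
  choose q hq1 hq2 using hex
  have huniq : ∀ s p, f p = s → Ideal.Quotient.mk N p = σR s → g p = g (q s) := fun s p h1 h2 => by
    refine sub_eq_zero.mp ?_
    rw [← map_sub]
    refine hgL _ ?_
    have hK : p - q s ∈ K := RingHom.mem_ker.mpr (by show f _ = 0; rw [map_sub, h1, hq1, sub_self])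
    have hN' : p - q s ∈ N := Ideal.Quotient.eq.mp (h2.trans (hq2 s).symm)
    obtain ⟨a, ha, b, hb, hab⟩ := Submodule.mem_sup.mp hN'
    have hb' : b ∈ K := by
      rw [show b = p - q s - a by rw [← hab, add_sub_cancel_left]]
      exact sub_mem hK (Ideal.pow_le_self two_ne_zero ha)
    rw [← hab]
    exact add_mem (Ideal.mem_sup_left ha)
      (Ideal.mem_sup_right (inf_map_le_mul I f hf (Submodule.mem_inf.mpr ⟨hb', hb⟩)))
  refine ⟨{ toFun := fun s => g (q s)
            map_one' := by rw [← huniq 1 1 (map_one f) (by rw [map_one, map_one]), map_one]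
            map_zero' := by rw [← huniq 0 0 (map_zero f) (by rw [map_zero, map_zero]), map_zero]
            map_add' := fun a b => by
              rw [← huniq _ (q a + q b) (by rw [map_add, hq1, hq1]) (by rw [map_add, map_add, hq2, hq2]), map_add]
            map_mul' := fun a b => by
              rw [← huniq _ (q a * q b) (by rw [map_mul, hq1, hq1]) (by rw [map_mul, map_mul, hq2, hq2]), map_mul]
            commutes' := fun r => by
              show g (q (algebraMap R S r)) = algebraMap R C r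
              rw [← huniq _ (algebraMap R P r) (f.commutes r) ((σR.commutes r).symm ▸ rfl), AlgHom.commutes] },
    AlgHom.ext fun s => ?_⟩
  show Ideal.Quotient.mk J (g (q s)) = u s
  rw [hgu, hq1]

theorem lift_of_flat_fibre [Module.Flat R S] (I : Ideal R)
    [Algebra (R ⧸ I) (S ⧸ I.map (algebraMap R S))] [IsScalarTower R (R ⧸ I) (S ⧸ I.map (algebraMap R S))]
    [Algebra.FormallySmooth (R ⧸ I) (S ⧸ I.map (algebraMap R S))] :
    ∀ {C : Type u} [CommRing C] [Algebra R C] (J : Ideal C), IsNilpotent J →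
      (∃ k : ℕ, (I ^ k).map (algebraMap R C) = ⊥) → ∀ u : S →ₐ[R] C ⧸ J,
      ∃ v : S →ₐ[R] C, (Ideal.Quotient.mkₐ R J).comp v = u := by
  have hsq : ∀ (k : ℕ) {C : Type u} [CommRing C] [Algebra R C] (J : Ideal C), J ^ 2 = ⊥ →
      (I ^ k).map (algebraMap R C) * J = ⊥ → ∀ u : S →ₐ[R] C ⧸ J,
      ∃ v : S →ₐ[R] C, (Ideal.Quotient.mkₐ R J).comp v = u := by
    intro k
    induction k with
    | zero =>
      intro C _ _ J _ h u
      rw [pow_zero, Ideal.one_eq_top, Ideal.map_top, Ideal.top_mul] at h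
      subst h
      exact ⟨(AlgEquiv.quotientBot R C).toAlgHom.comp u, AlgHom.ext fun s =>
        (AlgEquiv.quotientBot R C).symm_apply_apply (u s)⟩
    | succ k ih =>
      intro C _ _ J hJ h u
      let J' : Ideal C := I.map (algebraMap R C) * J
      have hle : J' ≤ J := Ideal.mul_le_right
      let e : ((C ⧸ J') ⧸ J.map (Ideal.Quotient.mkₐ R J')) ≃ₐ[R] C ⧸ J :=
        DoubleQuot.quotQuotEquivQuotOfLEₐ R hle
      have h1 : (J.map (Ideal.Quotient.mkₐ R J')) ^ 2 = ⊥ := by
        rw [← Ideal.map_pow, hJ, Ideal.map_bot]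
      have h2 : I.map (algebraMap R (C ⧸ J')) * J.map (Ideal.Quotient.mkₐ R J') = ⊥ := by
        rw [IsScalarTower.algebraMap_eq R C (C ⧸ J'), ← Ideal.map_map]
        show _ * Ideal.map (Ideal.Quotient.mk J') J = ⊥
        rw [Ideal.Quotient.algebraMap_eq, ← Ideal.map_mul]
        exact Ideal.map_quotient_self _
      obtain ⟨v₁, hv₁⟩ := lift_of_flat_fibre_core I _ h1 h2 (e.symm.toAlgHom.comp u)
      have h3 : J' ^ 2 = ⊥ := eq_bot_iff.mpr ((Ideal.pow_right_mono hle 2).trans_eq hJ)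
      have h4 : (I ^ k).map (algebraMap R C) * J' = ⊥ := by
        rw [← mul_assoc, ← Ideal.map_mul, ← pow_succ, h]
      obtain ⟨v, hv⟩ := ih J' h3 h4 v₁
      refine ⟨v, AlgHom.ext fun s => ?_⟩
      have hs := congrArg e (DFunLike.congr_fun hv₁ s)
      simp only [AlgHom.comp_apply, AlgEquiv.coe_toAlgHom, AlgEquiv.apply_symm_apply] at hs
      rw [← hs, ← show Ideal.Quotient.mkₐ R J' (v s) = v₁ s from DFunLike.congr_fun hv s]
      rfl
  intro C _ _ J hJ hk
  obtain ⟨k, hk⟩ := hk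
  suffices H : ∀ {T : Type u} [CommRing T] (J : Ideal T), IsNilpotent J → ∀ [Algebra R T],
      (I ^ k).map (algebraMap R T) = ⊥ → ∀ u : S →ₐ[R] T ⧸ J,
      ∃ v : S →ₐ[R] T, (Ideal.Quotient.mkₐ R J).comp v = u from H J hJ hk
  intro T _ J hJ
  refine Ideal.IsNilpotent.induction_on
    (P := fun (T : Type u) [CommRing T] (J : Ideal T) => ∀ [Algebra R T],
      (I ^ k).map (algebraMap R T) = ⊥ → ∀ u : S →ₐ[R] T ⧸ J,
      ∃ v : S →ₐ[R] T, (Ideal.Quotient.mkₐ R J).comp v = u) J hJ ?_ ?_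
  · intro T _ J hJ _ hk u
    exact hsq k J hJ (by rw [hk, Ideal.bot_mul]) u
  · intro T _ I' J' hle ih1 ih2 _ hk u
    let e : ((T ⧸ I') ⧸ J'.map (Ideal.Quotient.mk I')) ≃ₐ[R] T ⧸ J' :=
      { DoubleQuot.quotQuotEquivQuotOfLE hle with commutes' := fun r => rfl }
    obtain ⟨v₁, hv₁⟩ := ih2 (by
      rw [IsScalarTower.algebraMap_eq R T (T ⧸ I'), ← Ideal.map_map, hk, Ideal.map_bot]) (e.symm.toAlgHom.comp u)
    obtain ⟨v, hv⟩ := ih1 hk v₁
    refine ⟨v, AlgHom.ext fun s => ?_⟩
    have hs := congrArg e (DFunLike.congr_fun hv₁ s)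
    simp only [AlgHom.comp_apply, AlgEquiv.coe_toAlgHom, AlgEquiv.apply_symm_apply] at hs
    rw [← hs, ← show Ideal.Quotient.mkₐ R I' (v s) = v₁ s from DFunLike.congr_fun hv s]
    rfl

end Groth.Agent.EGA41FS
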