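/-
A flat algebra with adically formally smooth fibre is adically formally smooth.
-/
import Mathlib
import Groth.Prelude.Def_EGA41
import Groth.Agent.EGA41FS.ArtinianTest
import Groth.Agent.EGA41FS.FlatFibre

set_option autoImplicit false
universe u

namespace Groth.Agent.EGA41FS

/-- A formally smooth fibre lifts maps into algebras killed by the ideal of the base. -/
theorem exists_lift_killed {A B D T : Type u} [CommRing A] [CommRing B] [CommRing D] [CommRing T] [Algebra A B]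
    [Algebra A D] [Algebra A T] (𝔞 I : Ideal A) (𝔟 : Ideal B)
    [Algebra (A ⧸ I) (B ⧸ I.map (algebraMap A B))] [IsScalarTower A (A ⧸ I) (B ⧸ I.map (algebraMap A B))]
    (hfib : EGA41.IsFormallySmoothAdic (A ⧸ I) (𝔞.map (Ideal.Quotient.mk I)) (B ⧸ I.map (algebraMap A B))
      (𝔟.map (Ideal.Quotient.mk (I.map (algebraMap A B)))))
    (π : D →ₐ[A] T) (hπ : Function.Surjective π) (hnil : IsNilpotent (RingHom.ker π.toRingHom))
    (hI : ∀ r ∈ I, algebraMap A D r = 0) (ha : ∃ k : ℕ, (𝔞 ^ k).map (algebraMap A D) = ⊥)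
    (t : B →ₐ[A] T) (ht : ∃ k : ℕ, ∀ x ∈ 𝔟 ^ k, t x = 0) :
    ∃ σ : B →ₐ[A] D, π.comp σ = t := by
  letI : Algebra (A ⧸ I) D := (Ideal.Quotient.lift I (algebraMap A D) hI).toAlgebra
  haveI : IsScalarTower A (A ⧸ I) D := IsScalarTower.of_algebraMap_eq fun r => rfl
  let K' : Ideal D := RingHom.ker π.toRingHom
  let e : (D ⧸ K') ≃ₐ[A] T := Ideal.quotientKerAlgEquivOfSurjective hπ
  have htI : ∀ x ∈ I.map (algebraMap A B), t x = 0 := fun x hx => by
    have hle : I.map (algebraMap A B) ≤ RingHom.ker t.toRingHom := Ideal.map_le_iff_le_comap.mpr fun r hr => by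
      rw [Ideal.mem_comap, RingHom.mem_ker]
      show t (algebraMap A B r) = 0
      rw [AlgHom.commutes, ← π.commutes, hI r hr, map_zero]
    exact hle hx
  let u₁ : B ⧸ I.map (algebraMap A B) →ₐ[A ⧸ I] D ⧸ K' :=
    (e.symm.toAlgHom.comp (Ideal.Quotient.liftₐ _ t htI)).extendScalarsOfSurjective Ideal.Quotient.mk_surjective
  obtain ⟨k, hk⟩ := ha
  obtain ⟨l, hl⟩ := ht
  obtain ⟨σ, hσ⟩ := hfib D K' hnil ⟨k, by
      rw [← Ideal.map_pow, Ideal.map_map]
      exact (congrArg (Ideal.map · (𝔞 ^ k)) (RingHom.ext fun r => rfl)).trans hk⟩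
    u₁ ⟨l, fun x hx => by
      rw [← Ideal.map_pow] at hx
      obtain ⟨y, hy, rfl⟩ := (Ideal.mem_map_iff_of_surjective _ Ideal.Quotient.mk_surjective).mp hx
      show e.symm (t y) = 0
      rw [hl y hy, map_zero]⟩
  refine ⟨(σ.restrictScalars A).comp (Ideal.Quotient.mkₐ A _), AlgHom.ext fun b => ?_⟩
  have h := congrArg e (DFunLike.congr_fun hσ (Ideal.Quotient.mk _ b))
  rw [show e (u₁ (Ideal.Quotient.mk _ b)) = t b from e.apply_symm_apply _] at h
  exact h

theorem isFormallySmoothAdic_of_flat_fibre {A B : Type u} [CommRing A] [CommRing B] [IsNoetherianRing B]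
    [Algebra A B] [Module.Flat A B] (𝔞 I : Ideal A) (𝔟 : Ideal B) (h𝔞 : 𝔞.map (algebraMap A B) ≤ 𝔟)
    (hI : I.map (algebraMap A B) ≤ 𝔟)
    [Algebra (A ⧸ I) (B ⧸ I.map (algebraMap A B))] [IsScalarTower A (A ⧸ I) (B ⧸ I.map (algebraMap A B))]
    (hfib : EGA41.IsFormallySmoothAdic (A ⧸ I) (𝔞.map (Ideal.Quotient.mk I)) (B ⧸ I.map (algebraMap A B))
      (𝔟.map (Ideal.Quotient.mk (I.map (algebraMap A B))))) :
    EGA41.IsFormallySmoothAdic A 𝔞 B 𝔟 := by
  classical
  refine isFormallySmoothAdic_of_killed 𝔞 𝔟 fun C _ _ J hJ2 _ u hu hN => ?_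
  obtain ⟨k₀, hk₀⟩ := hu
  let IS := I.map (algebraMap A B)
  obtain ⟨k₁, hk₁⟩ := Ideal.exists_pow_inf_eq_pow_smul (I := 𝔟) (IS : Submodule B B)
  let k := k₀ + 1
  have hk : ∀ x ∈ 𝔟 ^ k, u x = 0 := fun x hx => hk₀ x (Ideal.pow_le_pow_right (Nat.le_succ _) hx)
  let k' := k + k₁
  have hAR : 𝔟 ^ (k' + 1) ⊓ IS ≤ 𝔟 ^ k * IS := fun x hx => by
    have h1 := (hk₁ (k' + 1) (by omega)).le
      (show x ∈ (𝔟 ^ (k' + 1) • ⊤ : Submodule B B) ⊓ IS from ⟨by rw [smul_eq_mul, Ideal.mul_top]; exact hx.1, hx.2⟩)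
    have h2 : x ∈ 𝔟 ^ (k' + 1 - k₁) • (IS : Submodule B B) := Submodule.smul_mono le_rfl inf_le_right h1
    rw [smul_eq_mul] at h2
    exact Ideal.mul_mono_left (Ideal.pow_le_pow_right (by omega)) h2
  let P := MvPolynomial B A
  let f : P →ₐ[A] B := MvPolynomial.aeval id
  have hf : Function.Surjective f := fun s => ⟨MvPolynomial.X s, MvPolynomial.aeval_X _ _⟩
  choose c hc using fun s : B => Ideal.Quotient.mk_surjective (u s)
  let g : P →ₐ[A] C := MvPolynomial.aeval c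
  have hgu : ∀ p, Ideal.Quotient.mk J (g p) = u (f p) := by
    refine fun p => DFunLike.congr_fun (?_ : (Ideal.Quotient.mkₐ A J).comp g = u.comp f) p
    exact MvPolynomial.algHom_ext fun s => by simp [g, f, hc]
  let K := RingHom.ker f.toRingHom
  let IP := I.map (algebraMap A P)
  obtain ⟨M, hMdef⟩ : ∃ M : ℕ → Ideal P, ∀ j, M j = (𝔟 ^ j).comap f.toRingHom := ⟨_, fun j => rfl⟩
  have hMmem : ∀ j p, p ∈ M j ↔ f p ∈ 𝔟 ^ j := fun j p => by rw [hMdef]; rfl
  have hKM : ∀ j, K ≤ M j := fun j p hp => by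
    rw [hMmem]
    rw [show f p = 0 from RingHom.mem_ker.mp hp]; exact zero_mem _
  have hgM1 : ∀ p ∈ M 1, g p ∈ preIdeal J u 𝔟 := fun p hp => by
    show Ideal.Quotient.mk J (g p) ∈ 𝔟.map u.toRingHom
    rw [hgu]
    exact Ideal.mem_map_of_mem u.toRingHom (by rw [← pow_one 𝔟]; exact (hMmem 1 p).mp hp)
  have hgMk : ∀ p ∈ M k, g p ∈ J := fun p hp => by
    rw [← Ideal.Quotient.eq_zero_iff_mem, hgu]
    exact hk _ ((hMmem k p).mp hp)
  have hgP : ∀ a b, a ∈ M 1 → b ∈ M k → g (a * b) = 0 := fun a b ha hb => by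
    rw [map_mul]
    have := Ideal.mul_mem_mul (hgM1 a ha) (hgMk b hb)
    rwa [hN] at this
  have hIPM1 : IP ≤ M 1 := Ideal.map_le_iff_le_comap.mpr fun r hr => by
    rw [Ideal.mem_comap, hMmem, AlgHom.commutes, pow_one]
    exact hI (Ideal.mem_map_of_mem _ hr)
  have hgkill : ∀ p ∈ M 1 * M k, g p = 0 := fun p hp => by
    have hle : M 1 * M k ≤ RingHom.ker g.toRingHom := Ideal.mul_le.mpr fun a ha b hb => hgP a b ha hb
    exact hle hp
  obtain ⟨N, hNd⟩ : ∃ N : Ideal P, N = M 1 * M k' ⊔ IP := ⟨_, rfl⟩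
  have hMa : ∀ j, (𝔞 ^ j).map (algebraMap A P) ≤ M j := fun j => Ideal.map_le_iff_le_comap.mpr fun r hr => by
    rw [Ideal.mem_comap, hMmem, AlgHom.commutes]
    refine Ideal.pow_right_mono h𝔞 j ?_
    rw [← Ideal.map_pow]
    exact Ideal.mem_map_of_mem _ hr
  let T := B ⧸ (𝔟 ^ (k' + 1) ⊔ IS)
  let fbar : P →ₐ[A] T := (Ideal.Quotient.mkₐ A _).comp f
  have hfIP : IP.map f.toRingHom = IS := by
    rw [Ideal.map_map, show f.toRingHom.comp (algebraMap A P) = algebraMap A B from RingHom.ext f.commutes]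
  have hMmap : ∀ j, (M j).map f.toRingHom = 𝔟 ^ j := fun j => by rw [hMdef, Ideal.map_comap_of_surjective f.toRingHom hf]
  have hfN : N.map f.toRingHom = 𝔟 ^ (k' + 1) ⊔ IS := by
    rw [hNd, Ideal.map_sup, Ideal.map_mul, hfIP, hMmap, hMmap,
      pow_one, ← pow_succ']
  have hfbarN : ∀ x ∈ N, fbar x = 0 := fun x hx =>
    Ideal.Quotient.eq_zero_iff_mem.mpr (hfN.le (Ideal.mem_map_of_mem f.toRingHom hx))
  have hfbar0 : ∀ x, fbar x = 0 → ∃ κ ∈ K, x - κ ∈ N := fun x hx => by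
    have h1 : f x ∈ N.map f.toRingHom := hfN.ge (Ideal.Quotient.eq_zero_iff_mem.mp hx)
    obtain ⟨i, hi, hie⟩ := (Ideal.mem_map_iff_of_surjective f.toRingHom hf).mp h1
    exact ⟨x - i, RingHom.mem_ker.mpr (by show f (x - i) = 0; rw [map_sub]; exact sub_eq_zero.mpr hie.symm),
      by simpa using hi⟩
  let π : P ⧸ N →ₐ[A] T := Ideal.Quotient.liftₐ N fbar hfbarN
  obtain ⟨σR, hσR⟩ := exists_lift_killed 𝔞 I 𝔟 hfib π
    (fun y => by
      obtain ⟨s, rfl⟩ := Ideal.Quotient.mk_surjective y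
      obtain ⟨p, rfl⟩ := hf s
      exact ⟨Ideal.Quotient.mk N p, rfl⟩)
    ⟨2, by
      refine (pow_two _).trans (eq_bot_iff.mpr (Ideal.mul_le.mpr fun x hx y hy => ?_))
      obtain ⟨x, rfl⟩ := Ideal.Quotient.mk_surjective x
      obtain ⟨y, rfl⟩ := Ideal.Quotient.mk_surjective y
      obtain ⟨a, ha, ha'⟩ := hfbar0 x hx
      obtain ⟨b, hb, hb'⟩ := hfbar0 y hy
      rw [Submodule.mem_bot, ← map_mul, Ideal.Quotient.eq_zero_iff_mem,
        show x * y = a * b + ((x - a) * y + a * (y - b)) by ring]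
      exact add_mem (hNd.ge (Ideal.mem_sup_left (Ideal.mul_mem_mul (hKM 1 ha) (hKM k' hb))))
        (add_mem (Ideal.mul_mem_right _ _ ha') (Ideal.mul_mem_left _ _ hb'))⟩
    (fun r hr => Ideal.Quotient.eq_zero_iff_mem.mpr (hNd.ge (Ideal.mem_sup_right (Ideal.mem_map_of_mem _ hr))))
    ⟨k' + 1, by
      rw [show algebraMap A (P ⧸ N) = (Ideal.Quotient.mk N).comp (algebraMap A P) from rfl, ← Ideal.map_map, eq_bot_iff,
        Ideal.map_le_iff_le_comap, ← RingHom.ker_eq_comap_bot, Ideal.mk_ker]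
      refine le_trans ?_ (le_sup_left.trans hNd.ge)
      rw [pow_succ', Ideal.map_mul]
      exact Ideal.mul_mono (by simpa only [pow_one] using hMa 1) (hMa k')⟩
    (Ideal.Quotient.mkₐ A _) ⟨k' + 1, fun x hx => Ideal.Quotient.eq_zero_iff_mem.mpr (Ideal.mem_sup_left hx)⟩
  have hσ' : ∀ s, π (σR s) = Ideal.Quotient.mk _ s := fun s => DFunLike.congr_fun hσR s
  have hex : ∀ s, ∃ q, f q = s ∧ Ideal.Quotient.mk N q = σR s := fun s => by
    obtain ⟨q, hq⟩ := Ideal.Quotient.mk_surjective (σR s)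
    obtain ⟨p, rfl⟩ := hf s
    have h0 : fbar (p - q) = 0 := by
      have h := hσ' (f p)
      rw [← hq] at h
      rw [map_sub, sub_eq_zero]
      exact h.symm
    obtain ⟨κ, hκ, hκ'⟩ := hfbar0 _ h0
    refine ⟨p - κ, by rw [map_sub, show f κ = 0 from RingHom.mem_ker.mp hκ, sub_zero], ?_⟩
    rw [← hq, Ideal.Quotient.eq, show p - κ - q = p - q - κ by ring]
    exact hκ'
  choose q hq1 hq2 using hex
  have huniq : ∀ s p, f p = s → Ideal.Quotient.mk N p = σR s → g p = g (q s) := fun s p h1 h2 => by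
    refine sub_eq_zero.mp ?_
    rw [← map_sub]
    have hK : f (p - q s) = 0 := by rw [map_sub, h1, hq1, sub_self]
    obtain ⟨a, ha, b, hb, hab⟩ := Submodule.mem_sup.mp (hNd.le (Ideal.Quotient.eq.mp (h2.trans (hq2 s).symm) : p - q s ∈ N))
    have hMk : M 1 * M k' ≤ M 1 * M k :=
      Ideal.mul_mono_right fun x hx => (hMmem k x).mpr (Ideal.pow_le_pow_right (by omega) ((hMmem k' x).mp hx))
    have hfb : f b ∈ 𝔟 ^ (k' + 1) ⊓ IS := by
      refine ⟨?_, hfIP ▸ Ideal.mem_map_of_mem f.toRingHom hb⟩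
      rw [show f b = - f a by rw [← hab, map_add] at hK; exact eq_neg_of_add_eq_zero_right hK]
      refine neg_mem ?_
      have := Ideal.mem_map_of_mem f.toRingHom ha
      rw [Ideal.map_mul, hMmap, hMmap, pow_one, ← pow_succ'] at this
      exact this
    have hfb' : f b ∈ (M k * IP).map f.toRingHom := by
      rw [Ideal.map_mul, hMmap, hfIP]
      exact hAR hfb
    obtain ⟨b', hb', hbe⟩ := (Ideal.mem_map_iff_of_surjective f.toRingHom hf).mp hfb'
    have hb'IP : b' ∈ I.map (algebraMap A P) := (Ideal.mul_le_right : M k * IP ≤ IP) hb'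
    have hbK : b - b' ∈ RingHom.ker f.toRingHom := by
      rw [RingHom.mem_ker, map_sub, sub_eq_zero]
      exact hbe.symm
    have hbI : b - b' ∈ I.map (algebraMap A P) := sub_mem hb hb'IP
    have hd : b - b' ∈ IP * K := inf_map_le_mul (P := P) (S := B) I f hf (Submodule.mem_inf.mpr ⟨hbK, hbI⟩)
    rw [← hab, show a + b = a + (b' + (b - b')) by ring, map_add, map_add, hgkill a (hMk ha),
      hgkill b' (by rw [mul_comm] at hb'; exact Ideal.mul_mono_left hIPM1 hb'),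
      hgkill (b - b') (Ideal.mul_mono hIPM1 (hKM k) hd)]
    simp
  refine ⟨{ toFun := fun s => g (q s)
            map_one' := by rw [← huniq 1 1 (map_one f) (by rw [map_one, map_one]), map_one]
            map_zero' := by rw [← huniq 0 0 (map_zero f) (by rw [map_zero, map_zero]), map_zero]
            map_add' := fun a b => by
              rw [← huniq _ (q a + q b) (by rw [map_add, hq1, hq1]) (by rw [map_add, map_add, hq2, hq2]), map_add]
            map_mul' := fun a b => by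
              rw [← huniq _ (q a * q b) (by rw [map_mul, hq1, hq1]) (by rw [map_mul, map_mul, hq2, hq2]), map_mul]
            commutes' := fun r => by
              show g (q (algebraMap A B r)) = algebraMap A C r
              rw [← huniq _ (algebraMap A P r) (f.commutes r) ((σR.commutes r).symm ▸ rfl), AlgHom.commutes] },
    AlgHom.ext fun s => ?_⟩
  show Ideal.Quotient.mk J (g (q s)) = u s
  rw [hgu, hq1]

end Groth.Agent.EGA41FS
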