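/-
Lifting continuous maps out of an adically formally smooth algebra to complete rings modulo an ideal.
-/
import Mathlib
import Groth.Prelude.Def_EGA41

set_option autoImplicit false
universe u

namespace Groth.Agent.EGA41FS

variable {A B C : Type u} [CommRing A] [CommRing B] [CommRing C] [Algebra A B] [Algebra A C]

/-- A compatible approximation modulo `M ^ (n + 1)`. -/
def Approx (M J : Ideal C) (u : B →ₐ[A] C ⧸ J) (n : ℕ) : Type u :=
  {v : B →ₐ[A] C ⧸ M ^ (n + 1) // ∀ (b : B) (c d : C),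
    Ideal.Quotient.mk _ c = v b → Ideal.Quotient.mk J d = u b → c - d ∈ J ⊔ M ^ (n + 1)}

theorem exists_step {𝔞 : Ideal A} {𝔟 : Ideal B} (hB : EGA41.IsFormallySmoothAdic A 𝔞 B 𝔟)
    (M J : Ideal C) (hJ : J ≤ M) (hA : 𝔞.map (algebraMap A C) ≤ M) (u : B →ₐ[A] C ⧸ J)
    (hu : ∀ b ∈ 𝔟, u b ∈ M.map (Ideal.Quotient.mk J)) (n : ℕ) (w : Approx M J u n) :
    ∃ w' : Approx M J u (n + 1), ∀ b (c c' : C),
      Ideal.Quotient.mk _ c = w.1 b → Ideal.Quotient.mk _ c' = w'.1 b → c - c' ∈ M ^ (n + 1) := by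
  obtain ⟨v, hv⟩ := w
  let P := J ⊔ M ^ (n + 2)
  let Q := M ^ (n + 1)
  let K := P ⊓ Q
  let φ : C ⧸ K →ₐ[A] (C ⧸ P) × (C ⧸ Q) :=
    (Ideal.Quotient.factorₐ A (inf_le_left : K ≤ P)).prod (Ideal.Quotient.factorₐ A (inf_le_right : K ≤ Q))
  have hφ : Function.Injective φ := by
    rw [injective_iff_map_eq_zero]
    intro x
    obtain ⟨x, rfl⟩ := Ideal.Quotient.mk_surjective x
    intro hx
    exact Ideal.Quotient.eq_zero_iff_mem.mpr
      ⟨Ideal.Quotient.eq_zero_iff_mem.mp (congrArg Prod.fst hx), Ideal.Quotient.eq_zero_iff_mem.mp (congrArg Prod.snd hx)⟩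
  let ψ : B →ₐ[A] (C ⧸ P) × (C ⧸ Q) :=
    ((Ideal.Quotient.factorₐ A (le_sup_left : J ≤ P)).comp u).prod v
  have hψ : ∀ b, ∃ x : C, φ (Ideal.Quotient.mk K x) = ψ b := fun b => by
    obtain ⟨c, hc⟩ := Ideal.Quotient.mk_surjective (v b)
    obtain ⟨d, hd⟩ := Ideal.Quotient.mk_surjective (u b)
    obtain ⟨j, hj, e, he, hje⟩ := Submodule.mem_sup.mp (hv b c d hc hd)
    refine ⟨c - e, Prod.ext ?_ ?_⟩
    · show Ideal.Quotient.mk P (c - e) = Ideal.Quotient.factor (le_sup_left : J ≤ P) (u b)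
      rw [← hd]
      show Ideal.Quotient.mk P (c - e) = Ideal.Quotient.mk P d
      rw [Ideal.Quotient.eq, show c - e - d = j by rw [eq_sub_of_add_eq hje]; ring]
      exact Submodule.mem_sup_left hj
    · show Ideal.Quotient.mk Q (c - e) = v b
      rw [← hc, Ideal.Quotient.eq, show c - e - c = -e by ring]
      exact neg_mem he
  let ψ' : B →ₐ[A] φ.range := ψ.codRestrict _ fun b => by
    obtain ⟨x, hx⟩ := hψ b
    exact ⟨_, hx⟩
  let u' : B →ₐ[A] C ⧸ K := (AlgEquiv.ofInjective φ hφ).symm.toAlgHom.comp ψ'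
  have hu' : ∀ b, φ (u' b) = ψ b := fun b =>
    congrArg Subtype.val ((AlgEquiv.ofInjective φ hφ).apply_symm_apply (ψ' b))
  let C' := C ⧸ M ^ (n + 2)
  let K' : Ideal C' := K.map (Ideal.Quotient.mk _)
  have hle : M ^ (n + 2) ≤ K := le_inf le_sup_right (Ideal.pow_le_pow_right (by omega))
  let e : (C' ⧸ K') ≃ₐ[A] C ⧸ K := DoubleQuot.quotQuotEquivQuotOfLEₐ A hle
  have hMC : (M.map (Ideal.Quotient.mk (M ^ (n + 2)))) ^ (n + 2) = ⊥ := by
    rw [← Ideal.map_pow, Ideal.map_quotient_self]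
  have hKnil : IsNilpotent K' :=
    ⟨n + 2, eq_bot_iff.mpr <| (Ideal.pow_right_mono (Ideal.map_mono (inf_le_right.trans (Ideal.pow_le_self (by omega)))) _).trans hMC.le⟩
  have hC' : ∃ k : ℕ, (𝔞 ^ k).map (algebraMap A C') = ⊥ := by
    refine ⟨n + 2, eq_bot_iff.mpr ?_⟩
    rw [show algebraMap A C' = (Ideal.Quotient.mk _).comp (algebraMap A C) from rfl, ← Ideal.map_map,
      ← Ideal.map_quotient_self (M ^ (n + 2)), Ideal.map_pow]
    exact Ideal.map_mono (Ideal.pow_right_mono hA _)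
  have hM' : ∀ b ∈ 𝔟, u' b ∈ M.map (Ideal.Quotient.mk K) := fun b hb => by
    obtain ⟨x, hx⟩ := Ideal.Quotient.mk_surjective (u' b)
    obtain ⟨d, hd⟩ := Ideal.Quotient.mk_surjective (u b)
    have h1 := congrArg Prod.fst (hu' b)
    rw [← hx] at h1
    change Ideal.Quotient.mk P x = Ideal.Quotient.factor (le_sup_left : J ≤ P) (u b) at h1
    rw [← hd] at h1
    have hxd : x - d ∈ P := Ideal.Quotient.eq.mp h1
    have hdM : d ∈ M := by
      have : d ∈ (M.map (Ideal.Quotient.mk J)).comap (Ideal.Quotient.mk J) := by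
        rw [Ideal.mem_comap, hd]; exact hu b hb
      rwa [Ideal.comap_map_of_surjective' _ Ideal.Quotient.mk_surjective, Ideal.mk_ker, sup_eq_left.mpr hJ] at this
    rw [← hx]
    refine Ideal.mem_map_of_mem _ ?_
    have := add_mem (sup_le hJ (Ideal.pow_le_self (by omega)) hxd) hdM
    rwa [sub_add_cancel] at this
  obtain ⟨v', hv'⟩ := hB C' K' hKnil hC' (e.symm.toAlgHom.comp u') ⟨n + 2, fun x hx => by
    have h1 : (𝔟 ^ (n + 2)).map u'.toRingHom ≤ (M ^ (n + 2)).map (Ideal.Quotient.mk K) := by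
      rw [Ideal.map_pow, Ideal.map_pow]
      exact Ideal.pow_right_mono (Ideal.map_le_iff_le_comap.mpr hM') _
    have h2 : u' x ∈ (M ^ (n + 2)).map (Ideal.Quotient.mk K) := h1 (Ideal.mem_map_of_mem u'.toRingHom hx)
    have h3 : (M ^ (n + 2)).map (Ideal.Quotient.mk K) = ⊥ := eq_bot_iff.mpr <|
      (Ideal.map_mono hle).trans (Ideal.map_quotient_self K).le
    rw [h3] at h2
    simp [show u' x = 0 from h2]⟩
  have hev : ∀ b (c' : C), Ideal.Quotient.mk _ c' = v' b → φ (Ideal.Quotient.mk K c') = ψ b := fun b c' hc' => by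
    have h := congrArg e (DFunLike.congr_fun hv' b)
    rw [AlgHom.comp_apply, ← hc'] at h
    rw [← hu' b]
    exact congrArg φ (h.trans (e.apply_symm_apply _))
  refine ⟨⟨v', fun b c' d hc' hd => ?_⟩, fun b c c' hc hc' => ?_⟩
  · have h1 := congrArg Prod.fst (hev b c' hc')
    change Ideal.Quotient.mk P c' = Ideal.Quotient.factor (le_sup_left : J ≤ P) (u b) at h1
    rw [← hd] at h1
    exact Ideal.Quotient.eq.mp h1
  · have h2 := congrArg Prod.snd (hev b c' hc')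
    change Ideal.Quotient.mk Q c' = v b at h2
    rw [← hc] at h2
    exact Ideal.Quotient.eq.mp h2.symm

theorem exists_lift_of_isAdicComplete {𝔞 : Ideal A} {𝔟 : Ideal B} (hB : EGA41.IsFormallySmoothAdic A 𝔞 B 𝔟)
    (M J : Ideal C) [IsAdicComplete M C] (hJ : J ≤ M) (hclosed : ∀ x, (∀ n, x ∈ J ⊔ M ^ n) → x ∈ J)
    (hA : 𝔞.map (algebraMap A C) ≤ M) (u : B →ₐ[A] C ⧸ J) (hu : ∀ b ∈ 𝔟, u b ∈ M.map (Ideal.Quotient.mk J)) :
    ∃ v : B →ₐ[A] C, (∀ b ∈ 𝔟, v b ∈ M) ∧ (Ideal.Quotient.mkₐ A J).comp v = u := by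
  have h1 : J ≤ M ^ (0 + 1) := hJ.trans (by rw [pow_one])
  let w₀ : Approx M J u 0 := ⟨(Ideal.Quotient.factorₐ A h1).comp u, fun b c d hc hd => by
    rw [AlgHom.comp_apply, ← hd] at hc
    exact Submodule.mem_sup_right (Ideal.Quotient.eq.mp hc)⟩
  choose next hnext using fun n (w : Approx M J u n) => exists_step hB M J hJ hA u hu n w
  let w : (n : ℕ) → Approx M J u n := fun n => Nat.rec w₀ (fun n w => next n w) n
  let f : (n : ℕ) → B →ₐ[A] C ⧸ M ^ n := fun n =>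
    (Ideal.Quotient.factorₐ A (Ideal.pow_le_pow_right n.le_succ)).comp (w n).1
  have hsucc : ∀ n b (c c' : C), Ideal.Quotient.mk _ c = (w n).1 b → Ideal.Quotient.mk _ c' = (w (n + 1)).1 b →
      c - c' ∈ M ^ (n + 1) := fun n => hnext n (w n)
  have hcompat : ∀ m n (hmn : m ≤ n) b (c c' : C), Ideal.Quotient.mk _ c = (w m).1 b →
      Ideal.Quotient.mk _ c' = (w n).1 b → c - c' ∈ M ^ (m + 1) := by
    intro m n hmn
    induction n, hmn using Nat.le_induction with
    | base => exact fun b c c' hc hc' => Ideal.Quotient.eq.mp (hc.trans hc'.symm)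
    | succ n hmn ih =>
      intro b c c' hc hc'
      obtain ⟨d, hd⟩ := Ideal.Quotient.mk_surjective ((w n).1 b)
      have h2 := add_mem (ih b c d hc hd) (Ideal.pow_le_pow_right (by omega) (hsucc n b d c' hd hc'))
      rwa [sub_add_sub_cancel] at h2
  have hf : ∀ {m n : ℕ} (hle : m ≤ n), (Ideal.Quotient.factorₐ A (Ideal.pow_le_pow_right hle)).comp (f n) = f m := by
    intro m n hle
    refine AlgHom.ext fun b => ?_
    obtain ⟨c, hc⟩ := Ideal.Quotient.mk_surjective ((w m).1 b)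
    obtain ⟨c', hc'⟩ := Ideal.Quotient.mk_surjective ((w n).1 b)
    simp only [f, AlgHom.comp_apply, ← hc, ← hc']
    exact (Ideal.Quotient.eq.mpr (Ideal.pow_le_pow_right m.le_succ (hcompat m n hle b c c' hc hc'))).symm
  let v := IsAdicComplete.liftAlgHom M f hf
  have hv : ∀ n b (c : C), Ideal.Quotient.mk _ c = (w n).1 b → v b - c ∈ M ^ n := fun n b c hc => by
    have h := IsAdicComplete.mk_liftAlgHom M f hf n b
    simp only [f, AlgHom.comp_apply, ← hc] at h
    exact Ideal.Quotient.eq.mp h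
  have hvu : ∀ b d, Ideal.Quotient.mk J d = u b → v b - d ∈ J := fun b d hd => hclosed _ fun n => by
    obtain ⟨c, hc⟩ := Ideal.Quotient.mk_surjective ((w n).1 b)
    have h2 := add_mem (Submodule.mem_sup_right (hv n b c hc) : v b - c ∈ J ⊔ M ^ n)
      (sup_le_sup_left (Ideal.pow_le_pow_right n.le_succ) J ((w n).2 b c d hc hd))
    rwa [sub_add_sub_cancel] at h2
  refine ⟨v, fun b hb => ?_, AlgHom.ext fun b => ?_⟩
  · obtain ⟨d, hd⟩ := Ideal.Quotient.mk_surjective (u b)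
    have hdM : d ∈ M := by
      have : d ∈ (M.map (Ideal.Quotient.mk J)).comap (Ideal.Quotient.mk J) := by
        rw [Ideal.mem_comap, hd]; exact hu b hb
      rwa [Ideal.comap_map_of_surjective' _ Ideal.Quotient.mk_surjective, Ideal.mk_ker, sup_eq_left.mpr hJ] at this
    have := add_mem (hJ (hvu b d hd)) hdM
    rwa [sub_add_cancel] at this
  · obtain ⟨d, hd⟩ := Ideal.Quotient.mk_surjective (u b)
    rw [AlgHom.comp_apply, ← hd]
    exact Ideal.Quotient.eq.mpr (hvu b d hd)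

end Groth.Agent.EGA41FS
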