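/-
Complete adically formally smooth algebras are determined by their fibres.
-/
import Mathlib
import Groth.Prelude.Def_EGA41
import Groth.Agent.EGA41FS.LiftComplete
import Groth.Agent.EGA41Adic.SepField
import Groth.Agent.EGA41Cohen.Basic
import Groth.Agent.AdicLim.Noetherian

set_option autoImplicit false
universe u

namespace Groth.Agent.EGA41FS

open IsLocalRing TensorProduct

/-- A quotient of a complete Noetherian local ring is complete. -/
theorem isAdicComplete_quotient {X : Type u} [CommRing X] [IsLocalRing X] [IsNoetherianRing X]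
    [IsAdicComplete (maximalIdeal X) X] (I : Ideal X) [IsLocalRing (X ⧸ I)] :
    IsAdicComplete (maximalIdeal (X ⧸ I)) (X ⧸ I) := by
  let q := Ideal.Quotient.mk I
  have hq : Function.Surjective q := Ideal.Quotient.mk_surjective
  haveI : Module.Finite X (X ⧸ I) := Module.Finite.of_surjective (Algebra.linearMap X (X ⧸ I)) hq
  haveI : IsAdicComplete (maximalIdeal X) (X ⧸ I) := AdicLim.isAdicComplete_of_finite (maximalIdeal X) (X ⧸ I)
  have hm : (maximalIdeal X).map q = maximalIdeal (X ⧸ I) := IsLocalRing.map_maximalIdeal_of_surjective q hq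
  have key : ∀ n, (maximalIdeal X ^ n • ⊤ : Submodule X (X ⧸ I)) =
      ((maximalIdeal (X ⧸ I) ^ n • ⊤ : Submodule (X ⧸ I) (X ⧸ I))).restrictScalars X := fun n => by
    rw [Ideal.smul_top_eq_map, smul_eq_mul, Ideal.mul_top, Ideal.Quotient.algebraMap_eq, Ideal.map_pow, hm]
  exact
    { haus' := fun x hx => IsHausdorff.haus (I := maximalIdeal X) inferInstance x fun n => by
        have := hx n
        rw [SModEq.sub_mem] at this ⊢
        rw [key]; exact this
      prec' := fun f hf => by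
        obtain ⟨L, hL⟩ := IsPrecomplete.prec (I := maximalIdeal X) inferInstance (f := f) fun {m n} hmn => by
          have := hf hmn
          rw [SModEq.sub_mem] at this ⊢
          rw [key]; exact this
        exact ⟨L, fun n => by
          have := hL n
          rw [SModEq.sub_mem] at this ⊢
          rw [key] at this; exact this⟩ }

/-- Reduction modulo an ideal of the base preserves adic formal smoothness. -/
theorem isFormallySmoothAdic_quotient {A B : Type u} [CommRing A] [CommRing B] [Algebra A B] (𝔞 I : Ideal A)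
    (𝔟 : Ideal B) [Algebra (A ⧸ I) (B ⧸ I.map (algebraMap A B))]
    [IsScalarTower A (A ⧸ I) (B ⧸ I.map (algebraMap A B))] (h : EGA41.IsFormallySmoothAdic A 𝔞 B 𝔟) :
    EGA41.IsFormallySmoothAdic (A ⧸ I) (𝔞.map (Ideal.Quotient.mk I)) (B ⧸ I.map (algebraMap A B))
      (𝔟.map (Ideal.Quotient.mk (I.map (algebraMap A B)))) := by
  intro C _ _ J hJ hC u hu
  letI : Algebra A C := ((algebraMap (A ⧸ I) C).comp (Ideal.Quotient.mk I)).toAlgebra
  haveI : IsScalarTower A (A ⧸ I) C := IsScalarTower.of_algebraMap_eq' rfl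
  obtain ⟨k, hk⟩ := hC
  obtain ⟨l, hl⟩ := hu
  obtain ⟨v, hv⟩ := h C J hJ ⟨k, by
      rw [show algebraMap A C = (algebraMap (A ⧸ I) C).comp (Ideal.Quotient.mk I) from rfl, ← Ideal.map_map,
        Ideal.map_pow]
      exact hk⟩
    ((u.restrictScalars A).comp (Ideal.Quotient.mkₐ A _)) ⟨l, fun x hx => by
      refine hl _ ?_
      rw [← Ideal.map_pow]
      exact Ideal.mem_map_of_mem _ hx⟩
  have hvI : ∀ x ∈ I.map (algebraMap A B), v x = 0 := fun x hx => by
    have hle : I.map (algebraMap A B) ≤ RingHom.ker v.toRingHom := Ideal.map_le_iff_le_comap.mpr fun r hr => by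
      rw [Ideal.mem_comap, RingHom.mem_ker]
      show v (algebraMap A B r) = 0
      rw [AlgHom.commutes]
      show algebraMap (A ⧸ I) C (Ideal.Quotient.mk I r) = 0
      rw [Ideal.Quotient.eq_zero_iff_mem.mpr hr, map_zero]
    exact hle hx
  refine ⟨(Ideal.Quotient.liftₐ _ v hvI).extendScalarsOfSurjective Ideal.Quotient.mk_surjective, AlgHom.ext fun x => ?_⟩
  obtain ⟨x, rfl⟩ := Ideal.Quotient.mk_surjective x
  exact DFunLike.congr_fun hv x

theorem isFormallySmoothAdic_of_algEquiv {A B B' : Type u} [CommRing A] [CommRing B] [CommRing B'] [Algebra A B]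
    [Algebra A B'] (𝔞 : Ideal A) {𝔟 : Ideal B} {𝔟' : Ideal B'} (e : B ≃ₐ[A] B')
    (h𝔟 : 𝔟' ≤ 𝔟.map e.toAlgHom.toRingHom) (h𝔟' : 𝔟.map e.toAlgHom.toRingHom ≤ 𝔟')
    (h : EGA41.IsFormallySmoothAdic A 𝔞 B 𝔟) : EGA41.IsFormallySmoothAdic A 𝔞 B' 𝔟' := by
  intro C _ _ J hJ hC u hu
  obtain ⟨l, hl⟩ := hu
  obtain ⟨v, hv⟩ := h C J hJ hC (u.comp e.toAlgHom) ⟨l, fun x hx => hl _ (by
    have := Ideal.mem_map_of_mem e.toAlgHom.toRingHom hx
    rw [Ideal.map_pow] at this
    exact Ideal.pow_right_mono h𝔟' l this)⟩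
  refine ⟨v.comp e.symm.toAlgHom, AlgHom.ext fun x => ?_⟩
  have := DFunLike.congr_fun hv (e.symm x)
  simpa using this

/-- An endomorphism congruent to the identity modulo an ideal of the base is bijective. -/
theorem bijective_endo {R X : Type u} [CommRing R] [CommRing X] [IsLocalRing X] [IsNoetherianRing X]
    [IsAdicComplete (maximalIdeal X) X] [Algebra R X] (Q : Ideal R)
    (hQ : Q.map (algebraMap R X) ≤ maximalIdeal X) (ε : X →ₐ[R] X) (hε : ∀ x, ε x - x ∈ Q.map (algebraMap R X)) :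
    Function.Bijective ε := by
  let K := Q.map (algebraMap R X)
  have hK : K ≠ ⊤ := fun h => (maximalIdeal.isMaximal X).ne_top (top_le_iff.mp (h ▸ hQ))
  haveI : IsAdicComplete K X := EGA41Cohen.isAdicComplete_ideal K hK
  have hKε : K.map ε.toRingHom = K := by
    rw [Ideal.map_map, show ε.toRingHom.comp (algebraMap R X) = algebraMap R X from RingHom.ext ε.commutes]
  haveI : IsHausdorff (K.map ε.toRingHom) X := by rw [hKε]; infer_instance
  have hs : Function.Surjective ε.toRingHom := surjective_of_mk_map_comp_surjective (I := K) ε.toRingHom fun z => by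
    obtain ⟨z, rfl⟩ := Ideal.Quotient.mk_surjective z
    refine ⟨z, Ideal.Quotient.eq.mpr ?_⟩
    rw [hKε]
    exact hε z
  exact ⟨EGA41Adic.injective_of_surjective_endo ε.toRingHom hs, hs⟩

/-- A lift of a map to the fibre. -/
theorem exists_lift_over {R X Y T : Type u} [CommRing R] [CommRing X] [CommRing Y] [CommRing T]
    [IsLocalRing X] [IsLocalRing Y] [IsNoetherianRing Y] [IsAdicComplete (maximalIdeal Y) Y]
    [Algebra R X] [Algebra R Y] [Algebra R T] (𝔞 Q : Ideal R)
    (hX : EGA41.IsFormallySmoothAdic R 𝔞 X (maximalIdeal X))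
    (h𝔞 : 𝔞.map (algebraMap R Y) ≤ maximalIdeal Y) (hQ : Q.map (algebraMap R Y) ≤ maximalIdeal Y)
    (ρX : X →ₐ[R] T) (hρX : Function.Surjective ρX) (ρY : Y →ₐ[R] T) (hρY : Function.Surjective ρY)
    (hkY : RingHom.ker ρY.toRingHom = Q.map (algebraMap R Y)) :
    ∃ u : X →ₐ[R] Y, ∀ x, ρY (u x) = ρX x := by
  let J := RingHom.ker ρY.toRingHom
  have hJ : J ≤ maximalIdeal Y := hkY.le.trans hQ
  haveI : Nontrivial T := by
    refine ⟨⟨1, 0, fun h => (maximalIdeal.isMaximal Y).ne_top ((Ideal.eq_top_iff_one _).mpr (hJ ?_))⟩⟩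
    rw [RingHom.mem_ker, map_one, h]
  haveI : IsLocalHom ρX.toRingHom := IsLocalHom.of_surjective _ hρX
  haveI : IsLocalHom ρY.toRingHom := IsLocalHom.of_surjective _ hρY
  let e : (Y ⧸ J) ≃ₐ[R] T := Ideal.quotientKerAlgEquivOfSurjective hρY
  obtain ⟨u, -, hu⟩ := exists_lift_of_isAdicComplete hX (maximalIdeal Y) J hJ (fun x hx => by
      haveI : Nontrivial (Y ⧸ J) := Ideal.Quotient.nontrivial_iff.mpr fun h =>
        (maximalIdeal.isMaximal Y).ne_top (top_le_iff.mp (h ▸ hJ))
      rw [← Ideal.Quotient.eq_zero_iff_mem]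
      refine IsHausdorff.haus (inferInstance : IsHausdorff (maximalIdeal Y) (Y ⧸ J)) _ fun n => ?_
      rw [SModEq.zero, Ideal.smul_top_eq_map]
      have h1 := Ideal.mem_map_of_mem (Ideal.Quotient.mk J) (hx n)
      rw [Ideal.map_sup, Ideal.map_quotient_self, bot_sup_eq] at h1
      exact h1)
    h𝔞 (e.symm.toAlgHom.comp ρX) (fun b hb => by
      obtain ⟨y, hy⟩ := hρY (ρX b)
      have : e.symm (ρX b) = Ideal.Quotient.mk J y := by
        rw [← hy]; exact e.symm_apply_apply (Ideal.Quotient.mk J y)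
      show e.symm (ρX b) ∈ _
      rw [this]
      refine Ideal.mem_map_of_mem _ ((mem_maximalIdeal y).mpr fun h => (mem_maximalIdeal b).mp hb ?_)
      refine isUnit_of_map_unit ρX.toRingHom b ?_
      have h1 := h.map ρY
      rwa [hy] at h1)
  refine ⟨u, fun x => ?_⟩
  have := congrArg e (DFunLike.congr_fun hu x)
  rw [show e (e.symm.toAlgHom.comp ρX x) = ρX x from e.apply_symm_apply _] at this
  exact this

/-- Complete adically formally smooth algebras with the same fibre are isomorphic over it. -/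
theorem exists_algEquiv_of_fibre {R X Y T : Type u} [CommRing R] [CommRing X] [CommRing Y] [CommRing T]
    [IsLocalRing X] [IsNoetherianRing X] [IsAdicComplete (maximalIdeal X) X]
    [IsLocalRing Y] [IsNoetherianRing Y] [IsAdicComplete (maximalIdeal Y) Y]
    [Algebra R X] [Algebra R Y] [Algebra R T] (𝔞 Q : Ideal R)
    (hX : EGA41.IsFormallySmoothAdic R 𝔞 X (maximalIdeal X))
    (hY : EGA41.IsFormallySmoothAdic R 𝔞 Y (maximalIdeal Y))
    (h𝔞X : 𝔞.map (algebraMap R X) ≤ maximalIdeal X) (hQX : Q.map (algebraMap R X) ≤ maximalIdeal X)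
    (h𝔞Y : 𝔞.map (algebraMap R Y) ≤ maximalIdeal Y) (hQY : Q.map (algebraMap R Y) ≤ maximalIdeal Y)
    (ρX : X →ₐ[R] T) (hρX : Function.Surjective ρX) (hkX : RingHom.ker ρX.toRingHom = Q.map (algebraMap R X))
    (ρY : Y →ₐ[R] T) (hρY : Function.Surjective ρY) (hkY : RingHom.ker ρY.toRingHom = Q.map (algebraMap R Y)) :
    ∃ e : X ≃ₐ[R] Y, ∀ x, ρY (e x) = ρX x := by
  obtain ⟨u, hu⟩ := exists_lift_over 𝔞 Q hX h𝔞Y hQY ρX hρX ρY hρY hkY
  obtain ⟨v, hv⟩ := exists_lift_over 𝔞 Q hY h𝔞X hQX ρY hρY ρX hρX hkX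
  have h1 := bijective_endo Q hQX (v.comp u) fun x => by
    rw [← hkX, RingHom.mem_ker, map_sub, sub_eq_zero]
    exact (hv (u x)).trans (hu x)
  have h2 := bijective_endo Q hQY (u.comp v) fun y => by
    rw [← hkY, RingHom.mem_ker, map_sub, sub_eq_zero]
    exact (hu (v y)).trans (hv y)
  exact ⟨AlgEquiv.ofBijective u ⟨Function.Injective.of_comp h1.1, Function.Surjective.of_comp h2.2⟩, hu⟩

/-- The kernel of `b ↦ 1 ⊗ b`. -/
theorem ker_includeRight_quot {A B : Type u} [CommRing A] [CommRing B] [Algebra A B] (I : Ideal A) :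
    RingHom.ker (Algebra.TensorProduct.includeRight : B →ₐ[A] (A ⧸ I) ⊗[A] B).toRingHom = I.map (algebraMap A B) := by
  refine le_antisymm (fun b hb => ?_) (Ideal.map_le_iff_le_comap.mpr fun r hr => ?_)
  · rw [← Ideal.Quotient.eq_zero_iff_mem]
    apply (Algebra.TensorProduct.quotIdealMapEquivTensorQuot B I).injective
    rw [map_zero, Algebra.TensorProduct.quotIdealMapEquivTensorQuot_mk]
    have h := congrArg (Algebra.TensorProduct.comm A (A ⧸ I) B) (RingHom.mem_ker.mp hb)
    rw [map_zero] at h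
    exact h
  · rw [Ideal.mem_comap, RingHom.mem_ker]
    show (1 : A ⧸ I) ⊗ₜ[A] algebraMap A B r = 0
    rw [Algebra.algebraMap_eq_smul_one r, ← TensorProduct.smul_tmul, Algebra.smul_def, mul_one,
      show algebraMap A (A ⧸ I) r = 0 from Ideal.Quotient.eq_zero_iff_mem.mpr hr, TensorProduct.zero_tmul]

theorem surjective_includeRight_quot {A B : Type u} [CommRing A] [CommRing B] [Algebra A B] (I : Ideal A) :
    Function.Surjective (Algebra.TensorProduct.includeRight : B →ₐ[A] (A ⧸ I) ⊗[A] B) := fun z => by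
  induction z using TensorProduct.induction_on with
  | zero => exact ⟨0, map_zero _⟩
  | add a b ha hb => obtain ⟨a', rfl⟩ := ha; obtain ⟨b', rfl⟩ := hb; exact ⟨a' + b', map_add _ a' b'⟩
  | tmul c b =>
    obtain ⟨a, rfl⟩ := Ideal.Quotient.mk_surjective c
    refine ⟨a • b, ?_⟩
    show (1 : A ⧸ I) ⊗ₜ[A] (a • b) = _
    rw [← TensorProduct.smul_tmul, Algebra.smul_def, mul_one]
    rfl

end Groth.Agent.EGA41FS
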