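/-
Uniqueness of continuous infinitesimal lifts versus `𝔟 • Ω[B⁄A] = Ω[B⁄A]`.
-/
import Mathlib

universe u

namespace Groth.Agent.EGA41FS

variable {A B : Type u} [CommRing A] [CommRing B] [Algebra A B]

/-- If `𝔟 • Ω[B⁄A] = Ω[B⁄A]`, two lifts modulo a nilpotent ideal, one of which kills a power of `𝔟`,
are equal. -/
theorem eq_of_smul_top {𝔟 : Ideal B} (hΩ : 𝔟 • (⊤ : Submodule B (Ω[B⁄A])) = ⊤)
    {E : Type u} [CommRing E] [Algebra A E] (J : Ideal E) (hJ : IsNilpotent J)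
    (v₁ v₂ : B →ₐ[A] E) (h₁ : ∃ m : ℕ, ∀ x ∈ 𝔟 ^ m, v₁ x = 0)
    (h : ∀ b : B, Ideal.Quotient.mk J (v₁ b) = Ideal.Quotient.mk J (v₂ b)) : v₁ = v₂ := by
  let L : Ideal E := Ideal.span (Set.range fun b => v₁ b - v₂ b)
  have hmem : ∀ b, v₁ b - v₂ b ∈ L := fun b => Ideal.subset_span ⟨b, rfl⟩
  have hLJ : L ≤ J := by
    refine Ideal.span_le.mpr ?_
    rintro _ ⟨b, rfl⟩
    exact (Ideal.Quotient.mk_eq_mk_iff_sub_mem _ _).mp (h b)
  have hc : IsNilpotent (𝔟.map v₁.toRingHom ⊔ L) := by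
    obtain ⟨m, hm⟩ := h₁
    obtain ⟨n, hn⟩ := hJ
    have h𝔟 : (𝔟.map v₁.toRingHom) ^ m = ⊥ := by
      rw [← Ideal.map_pow, eq_bot_iff, Ideal.map_le_iff_le_comap]
      intro x hx
      exact hm x hx
    refine ⟨m + n, ?_⟩
    rw [Ideal.zero_eq_bot, eq_bot_iff]
    refine Ideal.sup_pow_add_le_pow_sup_pow.trans ?_
    rw [h𝔟, bot_sup_eq]
    exact (Ideal.pow_right_mono hLJ n).trans hn.le
  let c : Ideal E := 𝔟.map v₁.toRingHom ⊔ L
  have key : L ≤ c * L := by
    let N : Ideal E := c * L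
    letI : Algebra B (E ⧸ N) := ((Ideal.Quotient.mk N).comp v₁.toRingHom).toAlgebra
    haveI : IsScalarTower A B (E ⧸ N) := IsScalarTower.of_algebraMap_eq fun a => by
      rw [RingHom.algebraMap_toAlgebra]
      change _ = Ideal.Quotient.mk N (v₁ (algebraMap A B a))
      rw [v₁.commutes]
      rfl
    let D : Derivation A B (E ⧸ N) :=
      Derivation.mk' ((Ideal.Quotient.mkₐ A N).toLinearMap ∘ₗ (v₁.toLinearMap - v₂.toLinearMap))
        (fun x y => by
          simp only [Algebra.smul_def, RingHom.algebraMap_toAlgebra]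
          change Ideal.Quotient.mk N (v₁ (x * y) - v₂ (x * y)) =
            Ideal.Quotient.mk N (v₁ x) * Ideal.Quotient.mk N (v₁ y - v₂ y) +
              Ideal.Quotient.mk N (v₁ y) * Ideal.Quotient.mk N (v₁ x - v₂ x)
          rw [← map_mul, ← map_mul, ← map_add, Ideal.Quotient.mk_eq_mk_iff_sub_mem]
          have : v₁ (x * y) - v₂ (x * y) -
              (v₁ x * (v₁ y - v₂ y) + v₁ y * (v₁ x - v₂ x)) =
              -((v₁ y - v₂ y) * (v₁ x - v₂ x)) := by
            rw [map_mul, map_mul]; ring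
          rw [this]
          exact N.neg_mem (Ideal.mul_mem_mul (Ideal.mem_sup_right (hmem y)) (hmem x)))
    have hD : ∀ b, D b = Ideal.Quotient.mk N (v₁ b - v₂ b) := fun b => rfl
    have hrange : ∀ ω, D.liftKaehlerDifferential ω ∈ L.map (Ideal.Quotient.mk N) := by
      intro ω
      have hω : ω ∈ Submodule.span B (Set.range (KaehlerDifferential.D A B)) := by
        rw [KaehlerDifferential.span_range_derivation]; trivial
      induction hω using Submodule.span_induction with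
      | mem x hx =>
        obtain ⟨b, rfl⟩ := hx
        rw [Derivation.liftKaehlerDifferential_comp_D, hD]
        exact Ideal.mem_map_of_mem _ (hmem b)
      | zero => simp
      | add x y _ _ hx hy => rw [map_add]; exact Ideal.add_mem _ hx hy
      | smul r x _ hx => rw [map_smul, Algebra.smul_def]; exact Ideal.mul_mem_left _ _ hx
    have hzero : ∀ ω, D.liftKaehlerDifferential ω = 0 := by
      intro ω
      have hω : ω ∈ 𝔟 • (⊤ : Submodule B (Ω[B⁄A])) := by rw [hΩ]; trivial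
      refine Submodule.smul_induction_on hω (fun r hr x _ => ?_)
        (fun x y hx hy => by rw [map_add, hx, hy, add_zero])
      ·
        rw [map_smul, Algebra.smul_def, RingHom.algebraMap_toAlgebra]
        obtain ⟨l, hl, hl'⟩ := (Ideal.mem_map_iff_of_surjective _
          Ideal.Quotient.mk_surjective).mp (hrange x)
        rw [← hl']
        change Ideal.Quotient.mk N (v₁ r) * Ideal.Quotient.mk N l = 0
        rw [← map_mul, Ideal.Quotient.eq_zero_iff_mem]
        exact Ideal.mul_mem_mul (Ideal.mem_sup_left (Ideal.mem_map_of_mem _ hr)) hl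
    refine Ideal.span_le.mpr ?_
    rintro _ ⟨b, rfl⟩
    refine Ideal.Quotient.eq_zero_iff_mem.mp ?_
    rw [← hD, ← Derivation.liftKaehlerDifferential_comp_D]
    exact hzero _
  have key' : ∀ n : ℕ, L ≤ c ^ n * L := by
    intro n
    induction n with
    | zero => simp
    | succ n ih =>
      rw [pow_succ, mul_assoc]
      exact ih.trans (Ideal.mul_mono_right key)
  obtain ⟨n, hn⟩ := hc
  have hL : L = ⊥ := by
    refine eq_bot_iff.mpr ((key' n).trans ?_)
    rw [show c ^ n = 0 from hn, zero_mul, Ideal.zero_eq_bot]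
  ext b
  have := hmem b
  rw [hL, Ideal.mem_bot, sub_eq_zero] at this
  exact this

/-- If lifts into algebras killed by `K` of maps killing `𝔟` are unique, then `𝔟 • Ω[B⁄A] = Ω[B⁄A]`. -/
theorem smul_top_of_unique {𝔟 : Ideal B} (K : Ideal A) (hK : K.map (algebraMap A B) ≤ 𝔟)
    (hu : ∀ (E : Type u) [CommRing E] [Algebra A E], K.map (algebraMap A E) = ⊥ →
      ∀ J : Ideal E, IsNilpotent J → ∀ v₁ v₂ : B →ₐ[A] E,
        (∀ x ∈ 𝔟 ^ 2, v₁ x = 0) → (∀ x ∈ 𝔟 ^ 2, v₂ x = 0) →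
        (∀ b : B, Ideal.Quotient.mk J (v₁ b) = Ideal.Quotient.mk J (v₂ b)) → v₁ = v₂) :
    𝔟 • (⊤ : Submodule B (Ω[B⁄A])) = ⊤ := by
  let Q := Ω[B⁄A] ⧸ (𝔟 • (⊤ : Submodule B (Ω[B⁄A])))
  letI : Module (B ⧸ 𝔟)ᵐᵒᵖ Q := Module.compHom _ ((RingHom.id (B ⧸ 𝔟)).fromOpposite mul_comm)
  haveI : IsCentralScalar (B ⧸ 𝔟) Q := ⟨fun r m => rfl⟩
  haveI : IsScalarTower A (B ⧸ 𝔟) Q := IsScalarTower.of_algebraMap_smul fun a q => by
    rw [IsScalarTower.algebraMap_apply A B (B ⧸ 𝔟), ← IsScalarTower.algebraMap_smul B a q]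
    rfl
  haveI : IsScalarTower A (B ⧸ 𝔟)ᵐᵒᵖ Q := ⟨fun a r q => smul_assoc a r.unop q⟩
  let d : B → Q := fun b => Submodule.Quotient.mk (KaehlerDifferential.D A B b)
  have hd_mul : ∀ x y, d (x * y) = (Ideal.Quotient.mk 𝔟 x) • d y + (Ideal.Quotient.mk 𝔟 y) • d x :=
    fun x y => by simp only [d, Derivation.leibniz]; rfl
  have hd0 : ∀ a, d (algebraMap A B a) = 0 := fun a => by simp [d]
  have hdb : ∀ x ∈ 𝔟, (Ideal.Quotient.mk 𝔟 x) = 0 := fun x hx => Ideal.Quotient.eq_zero_iff_mem.mpr hx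
  let E := TrivSqZeroExt (B ⧸ 𝔟) Q
  let v₁ : B →ₐ[A] E := (TrivSqZeroExt.inlAlgHom A (B ⧸ 𝔟) Q).comp (Ideal.Quotient.mkₐ A 𝔟)
  let v₂ : B →ₐ[A] E :=
    { toFun := fun b => (⟨Ideal.Quotient.mk 𝔟 b, d b⟩ : E)
      map_one' := TrivSqZeroExt.ext (map_one _) (by
        change d 1 = 0
        simp [d])
      map_mul' := fun x y => TrivSqZeroExt.ext (map_mul _ _ _) (by
        change d (x * y) = (Ideal.Quotient.mk 𝔟 x) • d y + MulOpposite.op (Ideal.Quotient.mk 𝔟 y) • d x
        rw [op_smul_eq_smul]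
        exact hd_mul x y)
      map_zero' := TrivSqZeroExt.ext (map_zero _) (by change d 0 = 0; simp [d])
      map_add' := fun x y => TrivSqZeroExt.ext (map_add _ _ _) (by
        change d (x + y) = d x + d y
        simp [d])
      commutes' := fun a => TrivSqZeroExt.ext rfl (by
        change d (algebraMap A B a) = _
        rw [hd0]; rfl) }
  have hKE : K.map (algebraMap A E) = ⊥ := by
    rw [eq_bot_iff, Ideal.map_le_iff_le_comap]
    intro a ha
    refine TrivSqZeroExt.ext ?_ rfl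
    change Ideal.Quotient.mk 𝔟 (algebraMap A B a) = 0
    exact hdb _ (hK (Ideal.mem_map_of_mem _ ha))
  let J : Ideal E := RingHom.ker (TrivSqZeroExt.fstHom A (B ⧸ 𝔟) Q).toRingHom
  have hJ : IsNilpotent J := by
    refine ⟨2, ?_⟩
    rw [pow_two, Ideal.zero_eq_bot, eq_bot_iff, Ideal.mul_le]
    intro x hx y hy
    have hx' : x.fst = 0 := hx
    have hy' : y.fst = 0 := hy
    refine TrivSqZeroExt.ext ?_ ?_
    · change x.fst * y.fst = 0
      rw [hx', zero_mul]
    · change x.fst • y.snd + MulOpposite.op y.fst • x.snd = 0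
      rw [hx', hy', op_smul_eq_smul, zero_smul, zero_smul, add_zero]
  have hd : ∀ b, d b = 0 := by
    have h1 : ∀ x ∈ 𝔟 ^ 2, v₁ x = 0 := fun x hx =>
      TrivSqZeroExt.ext (hdb x (Ideal.pow_le_self two_ne_zero hx)) rfl
    have h2 : ∀ x ∈ 𝔟 ^ 2, v₂ x = 0 := by
      intro x hx
      refine TrivSqZeroExt.ext (hdb x (Ideal.pow_le_self two_ne_zero hx)) ?_
      change d x = 0
      rw [pow_two] at hx
      induction hx using Submodule.mul_induction_on' with
      | mem_mul_mem p hp q hq => rw [hd_mul, hdb p hp, hdb q hq, zero_smul, zero_smul, add_zero]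
      | add p _ q _ hp hq => simp only [d, map_add, Submodule.Quotient.mk_add] at hp hq ⊢; rw [hp, hq, add_zero]
    have heq := hu E hKE J hJ v₁ v₂ h1 h2 (fun b => by
      rw [Ideal.Quotient.mk_eq_mk_iff_sub_mem, RingHom.mem_ker, map_sub, sub_eq_zero]
      rfl)
    intro b
    exact (congrArg TrivSqZeroExt.snd (congrArg (fun f : B →ₐ[A] E => f b) heq)).symm
  refine eq_top_iff.mpr ((KaehlerDifferential.span_range_derivation A B).ge.trans ?_)
  rw [Submodule.span_le]
  rintro _ ⟨b, rfl⟩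
  exact (Submodule.Quotient.mk_eq_zero _).mp (hd b)

end Groth.Agent.EGA41FS
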