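/-
Maps out of formal power series algebras into discrete algebras.
-/
import Groth.Agent.ArtPow.Basic

set_option autoImplicit false
universe u

open MvPowerSeries

namespace Groth.Agent.EGA41FS

variable {A : Type u} [CommRing A] (𝔞 : Ideal A) {n : ℕ} {E : Type u} [CommRing E] [Algebra A E]

/-- The ideal of definition of the product topology. -/
noncomputable abbrev powIdeal : Ideal (MvPowerSeries (Fin n) A) :=
  𝔞.map (C : A →+* MvPowerSeries (Fin n) A) ⊔ RingHom.ker (constantCoeff : MvPowerSeries (Fin n) A →+* A)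

theorem X_mem_powIdeal (i : Fin n) : (X i : MvPowerSeries (Fin n) A) ∈ powIdeal 𝔞 :=
  Ideal.mem_sup_right (by simp [RingHom.mem_ker])

theorem isNilpotent_of_continuous (f : MvPowerSeries (Fin n) A →ₐ[A] E)
    (hf : ∃ m : ℕ, ∀ x ∈ (powIdeal (n := n) 𝔞) ^ m, f x = 0) (i : Fin n) : IsNilpotent (f (X i)) := by
  obtain ⟨m, hm⟩ := hf
  exact ⟨m, by rw [← map_pow]; exact hm _ (Ideal.pow_mem_pow (X_mem_powIdeal 𝔞 i) m)⟩

theorem exists_nilpotent_ideal (hE : ∃ k : ℕ, (𝔞 ^ k).map (algebraMap A E) = ⊥) (z : Fin n → E)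
    (hz : ∀ i, IsNilpotent (z i)) :
    ∃ N, (𝔞.map (algebraMap A E) ⊔ Ideal.span (Set.range z)) ^ N = ⊥ := by
  obtain ⟨k, hk⟩ := hE
  rw [Ideal.map_pow] at hk
  obtain ⟨l, hl⟩ := Ideal.exists_pow_le_of_le_radical_of_fg (J := (⊥ : Ideal E)) (I := Ideal.span (Set.range z))
    (Ideal.span_le.mpr (by rintro _ ⟨i, rfl⟩; exact mem_nilradical.mpr (hz i))) (Submodule.fg_span (Set.finite_range z))
  refine ⟨k + l, eq_bot_iff.mpr (Ideal.sup_pow_add_le_pow_sup_pow.trans ?_)⟩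
  rw [hk, bot_sup_eq]
  exact hl

theorem continuous_of_isNilpotent (hE : ∃ k : ℕ, (𝔞 ^ k).map (algebraMap A E) = ⊥)
    (f : MvPowerSeries (Fin n) A →ₐ[A] E) (hf : ∀ i, IsNilpotent (f (X i))) :
    ∃ m : ℕ, ∀ x ∈ (powIdeal (n := n) 𝔞) ^ m, f x = 0 := by
  obtain ⟨N, hN⟩ := exists_nilpotent_ideal 𝔞 hE (fun i => f (X i)) hf
  refine ⟨N, fun x hx => ?_⟩
  have h1 : (powIdeal (n := n) 𝔞).map f.toRingHom ≤ 𝔞.map (algebraMap A E) ⊔ Ideal.span (Set.range fun i => f (X i)) := by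
    rw [powIdeal, Ideal.map_sup, Ideal.map_map]
    refine sup_le_sup ?_ ?_
    · rw [show f.toRingHom.comp (C : A →+* MvPowerSeries (Fin n) A) = algebraMap A E from RingHom.ext fun a => by
        show f (C a) = _
        rw [← f.commutes a, MvPowerSeries.algebraMap_apply, Algebra.algebraMap_self, RingHom.id_apply]]
    · rw [Ideal.map_le_iff_le_comap]
      intro y hy
      have h0 := ArtPow.sub_C_constantCoeff_mem y
      rw [RingHom.mem_ker.mp hy, map_zero, sub_zero] at h0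
      refine (Ideal.span_le (I := Ideal.comap f.toRingHom _)).mpr ?_ h0
      rintro _ ⟨i, rfl⟩
      exact Ideal.subset_span ⟨i, rfl⟩
  have h2 := Ideal.pow_right_mono h1 N (by rw [← Ideal.map_pow]; exact Ideal.mem_map_of_mem f.toRingHom hx)
  rw [hN] at h2
  exact h2

theorem algHom_ext_nilpotent {f g : MvPowerSeries (Fin n) A →ₐ[A] E} (hf : ∀ i, IsNilpotent (f (X i)))
    (h : ∀ i, f (X i) = g (X i)) : f = g := by
  obtain ⟨N, hN⟩ := exists_nilpotent_ideal (⊥ : Ideal A) ⟨1, by rw [pow_one, Ideal.map_bot]⟩ (fun i => f (X i)) hf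
  exact ArtPow.algHom_ext hN h fun i => Ideal.mem_sup_right (Ideal.subset_span ⟨i, rfl⟩)

end Groth.Agent.EGA41FS
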